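import Groth.Agent.L12.KBun.Atlas
import Groth.Agent.L18.Grass.QuotExist
import Groth.Agent.L18.LefConnected
import Groth.Agent.L12.Kvb.Rank

/-!
# Projective bundles exist over connected Noetherian schemes
-/

set_option autoImplicit false
set_option maxHeartbeats 400000
set_option linter.style.haveILetI false
set_option linter.unusedSectionVars false
set_option backward.isDefEq.respectTransparency false
set_option backward.isDefEq.respectTransparency.types false

universe u

open CategoryTheory CategoryTheory.Limits AlgebraicGeometry TopologicalSpace Opposite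

attribute [local instance] HasDerivedCategory.standard

noncomputable section

namespace Groth.L12.KBun

/-- A connected scheme has no idempotent functions other than `0` and `1`. -/
theorem idem_eq_zero_or_one {X : Scheme.{u}} [ConnectedSpace X] {e : Γ(X, ⊤)} (he : IsIdempotentElem e) :
    e = 0 ∨ e = 1 := by
  have hcov : (X.basicOpen e : Set X) ∪ (X.basicOpen (1 - e) : Set X) = Set.univ :=
    Set.eq_univ_iff_forall.2 fun x => by
      show x ∈ X.basicOpen e ∨ x ∈ X.basicOpen (1 - e)
      rw [X.mem_basicOpen _ x (show x ∈ (⊤ : X.Opens) from trivial),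
        X.mem_basicOpen _ x (show x ∈ (⊤ : X.Opens) from trivial), map_sub, map_one]
      exact IsLocalRing.isUnit_or_isUnit_one_sub_self _
  have hdisj : Disjoint (X.basicOpen e : Set X) (X.basicOpen (1 - e) : Set X) := by
    rw [Set.disjoint_iff_inter_eq_empty, ← Opens.coe_inf, ← X.basicOpen_mul, he.mul_one_sub_self, X.basicOpen_zero]
    rfl
  have hcl : IsClopen (X.basicOpen e : Set X) := by
    refine ⟨?_, (X.basicOpen e).2⟩
    rw [← isOpen_compl_iff, show (X.basicOpen e : Set X)ᶜ = (X.basicOpen (1 - e) : Set X) from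
      (Set.compl_eq_univ_diff _).trans (by rw [← hcov, Set.union_diff_left, hdisj.symm.sdiff_eq_left])]
    exact (X.basicOpen (1 - e)).2
  rcases isClopen_iff.1 hcl with h | h
  · exact Or.inl (Groth.L18.LefConnected.eq_zero_of_idem he (Opens.ext h))
  · refine Or.inr ?_
    have h' : X.basicOpen (1 - e) = ⊥ := Opens.ext (by
      rw [h, Set.univ_disjoint] at hdisj
      exact hdisj)
    exact (sub_eq_zero.1 (Groth.L18.LefConnected.eq_zero_of_idem he.one_sub h')).symm

/-- The projective bundle of a bundle of positive rank, with connected Noetherian total space. -/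
theorem exists_projBundle (S : Scheme.{u}) [IsNoetherian S] [ConnectedSpace S] {r : ℕ} {E : S.Modules}
    (hE : FlatMod.IsFinLocFreeOfRank (r + 1) E) :
    ∃ (P : Scheme.{u}) (π : P ⟶ S) (O1 : P.Modules) (q : (Scheme.Modules.pullback π).obj E ⟶ O1),
      _root_.KRR.IsProjBundle π E O1 q ∧ IsNoetherian P ∧ ConnectedSpace P := by
  haveI := Groth.L29.DC.PCQCoh.isQCoh_of_isFinLocFree (Groth.L18.KRRAmple.isFinLocFree_of_rank hE)
  obtain ⟨P, π, O1, q, hG⟩ := Groth.L18.QuotExist.exists_isGrass E 1
  obtain ⟨A⟩ := exists_atlas hG.isProjBundle hE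
  haveI := A.isProper
  haveI : IsLocallyNoetherian P := LocallyOfFiniteType.isLocallyNoetherian π
  haveI : CompactSpace P := QuasiCompact.compactSpace_of_compactSpace π
  haveI := A.isIso_app ⊤
  have hbij : Function.Bijective (π.app ⊤) := ConcreteCategory.bijective_of_isIso (π.app ⊤)
  haveI : PreconnectedSpace P := Groth.L18.LefConnected.preconnectedSpace_of_idem fun e he => by
    obtain ⟨f, rfl⟩ := hbij.2 e
    have hf : IsIdempotentElem f := hbij.1 ((map_mul _ f f).trans he)
    rcases idem_eq_zero_or_one hf with rfl | rfl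
    · exact Or.inl (map_zero _)
    · exact Or.inr (map_one _)
  have hne : Nonempty P := by
    by_contra hc
    haveI : Subsingleton Γ(P, π ⁻¹ᵁ ⊤) := by
      rw [show π ⁻¹ᵁ (⊤ : S.Opens) = ⊥ from Opens.ext (by haveI := not_nonempty_iff.1 hc; exact Set.eq_empty_of_isEmpty _)]
      infer_instance
    haveI : Subsingleton Γ(S, ⊤) := hbij.1.subsingleton
    obtain ⟨s⟩ := (inferInstance : Nonempty S)
    haveI : Nonempty ((⊤ : S.Opens) : Scheme.{u}) := ⟨⟨s, trivial⟩⟩
    haveI : Nontrivial Γ(S, ⊤) := inferInstance
    exact not_subsingleton Γ(S, ⊤) inferInstance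
  exact ⟨P, π, O1, q, hG.isProjBundle, ⟨⟩, ⟨hne⟩⟩

end Groth.L12.KBun
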