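import Groth.Agent.L13.ElemExt.Gamma

/-!
# The gamma filtration of a free extension by a line element with a relation
-/

set_option autoImplicit false
set_option maxHeartbeats 400000
set_option linter.style.haveILetI false
set_option linter.unusedSectionVars false

universe v

namespace Groth.L12.KBun.Gamma

open Finset LambdaRing Groth.L08.Lambda

variable {K : Type v} [CommRing K] [LambdaOps K] {P : PosStructure K}
  {K' : Type v} [CommRing K'] [LambdaOps K'] {P' : PosStructure K'}

/-- The hypotheses: `K' = K[ℓ]` with the relation of a positive element `e` of rank `r + 1`. -/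
structure Ext (P : PosStructure K) (P' : PosStructure K') (Q : K →+* K') (ℓ : K') (e : K) (r : ℕ) : Prop where
  lam_Q : ∀ i x, Q (LambdaOps.lam i x) = LambdaOps.lam i (Q x)
  aug_Q : ∀ x, P'.aug (Q x) = P.aug x
  line : P'.IsLine ℓ
  lam_line : ∀ u, P'.IsLine u → ∀ (i : ℕ) (x : K'), LambdaOps.lam i (u * x) = u ^ i * LambdaOps.lam i x
  span : ∀ x : K', x ∈ AddSubgroup.closure {z | ∃ (y : K) (i : ℕ), z = Q y * ℓ ^ i}
  pos : e ∈ P.pos
  aug : P.aug e = r + 1
  rel : ∑ i ∈ range (r + 2), (-1 : K') ^ i * Q (LambdaOps.lam i e) * ℓ ^ (r + 1 - i) = 0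

/-- `Σ_{i ≤ r} F^{k-i} (ℓ-1)^i`. -/
def J (P : PosStructure K) (Q : K →+* K') (ℓ : K') (r k : ℕ) : AddSubgroup K' :=
  AddSubgroup.closure {z | ∃ (i : ℕ) (a : K), i ≤ r ∧ a ∈ gammaFiltration P (k - i) ∧ z = Q a * (ℓ - 1) ^ i}

variable {Q : K →+* K'} {ℓ : K'} {e : K} {r : ℕ}

theorem mem_J {k i : ℕ} (hi : i ≤ r) {a : K} (ha : a ∈ gammaFiltration P (k - i)) :
    Q a * (ℓ - 1) ^ i ∈ J P Q ℓ r k :=
  AddSubgroup.subset_closure ⟨i, a, hi, ha, rfl⟩

theorem of_mem_J {k : ℕ} {a : K} (ha : a ∈ gammaFiltration P k) : Q a ∈ J P Q ℓ r k := by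
  simpa using mem_J (Q := Q) (ℓ := ℓ) (r := r) (k := k) (i := 0) (Nat.zero_le r) (by simpa using ha)

theorem J_le {k : ℕ} {S : AddSubgroup K'}
    (h : ∀ i, i ≤ r → ∀ a ∈ gammaFiltration P (k - i), Q a * (ℓ - 1) ^ i ∈ S) : J P Q ℓ r k ≤ S :=
  (AddSubgroup.closure_le _).2 (by rintro _ ⟨i, a, hi, ha, rfl⟩; exact h i hi a ha)

theorem J_antitone {j k : ℕ} (h : j ≤ k) : J P Q ℓ r k ≤ J P Q ℓ r j :=
  J_le fun _ hi _ ha => mem_J hi (gammaFiltration_antitone P (by omega) ha)

theorem one_mem_J : (1 : K') ∈ J P Q ℓ r 0 := by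
  rw [← map_one Q]
  exact of_mem_J (by simp [gammaFiltration])

theorem gamma_Q (h : Ext P P' Q ℓ e r) (n : ℕ) (a : K) : gamma n (Q a) = Q (gamma n a) := by
  unfold gamma
  split_ifs
  · simp
  · rw [map_sum]
    refine sum_congr rfl fun j _ => ?_
    rw [map_mul, map_natCast]
    split_ifs
    · simp
    · rw [h.lam_Q]

variable (h : Ext P P' Q ℓ e r)

include h in
theorem pow_rel : ∑ n ∈ range (r + 2), Q ((-1) ^ n * gamma n (e - ((r + 1 : ℕ) : K))) * (ℓ - 1) ^ (r + 1 - n) = 0 := by
  have h1 := fun k hk => Groth.L22.Lambda.lam_eq_zero_of_isLine P (Groth.L22.Lambda.isLine_one P) (i := k) hk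
  rw [← h.rel]
  have lhs : ∀ n ∈ range (r + 2), Q ((-1) ^ n * gamma n (e - ((r + 1 : ℕ) : K))) * (ℓ - 1) ^ (r + 1 - n) =
      ∑ j ∈ range (r + 2), if j ≤ n then
        Q ((-1) ^ j * LambdaOps.lam j e) * (((r + 1 - j).choose (n - j) : K') * (ℓ - 1) ^ (r + 1 - n)) else 0 := by
    intro n _
    rw [coeff_gamma_rank h1 (fun k hk => P.lam_eq_zero e h.pos k (by rw [h.aug]; omega)), mul_sum, map_sum, sum_mul]
    refine sum_congr rfl fun j _ => ?_
    split_ifs with hjn
    · obtain ⟨d, rfl⟩ : ∃ d, n = j + d := ⟨n - j, by omega⟩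
      simp only [Nat.add_sub_cancel_left, map_mul, map_pow, map_neg, map_one, map_natCast, pow_add]
      have : ((-1 : K') ^ d) * (-1) ^ d = 1 := by rw [← mul_pow]; simp
      linear_combination (Q (LambdaOps.lam j e) * ((r + 1 - j).choose d : K') *
        (ℓ - 1) ^ (r + 1 - (j + d)) * (-1) ^ j) * this
    · simp
  rw [sum_congr rfl lhs, sum_comm]
  refine sum_congr rfl fun j hj => ?_
  have := mem_range.1 hj
  rw [show r + 2 = j + (r + 1 - j + 1) by omega, sum_range_add,
    sum_eq_zero (s := range j) fun n hn => if_neg (by have := mem_range.1 hn; omega), zero_add]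
  conv_rhs => rw [show ℓ = (ℓ - 1) + 1 by ring, add_comm (ℓ - 1) 1, add_pow, mul_sum]
  refine sum_congr rfl fun t _ => ?_
  rw [if_pos (by omega), one_pow, one_mul, Nat.add_sub_cancel_left, Nat.sub_sub, map_mul, map_pow, map_neg, map_one]
  ring

include h in
theorem J_mul_sub_one {k : ℕ} {x : K'} (hx : x ∈ J P Q ℓ r k) : x * (ℓ - 1) ∈ J P Q ℓ r (k + 1) := by
  have key : J P Q ℓ r k ≤ (J P Q ℓ r (k + 1)).comap (AddMonoidHom.mulRight (ℓ - 1)) := by
    refine J_le fun i hi a ha => ?_
    show Q a * (ℓ - 1) ^ i * (ℓ - 1) ∈ J P Q ℓ r (k + 1)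
    rw [mul_assoc, ← pow_succ]
    rcases lt_or_eq_of_le hi with hi | rfl
    · exact mem_J hi (by simpa [Nat.add_sub_add_right] using ha)
    have hr := pow_rel h
    rw [sum_range_succ', gamma_zero, pow_zero, mul_one, map_one, one_mul, Nat.sub_zero] at hr
    rw [eq_neg_of_add_eq_zero_right hr, mul_neg, mul_sum]
    refine neg_mem (sum_mem fun n hn => ?_)
    have hn' := mem_range.1 hn
    rw [← mul_assoc, ← map_mul]
    refine mem_J (by omega) ?_
    have hg : (-1) ^ (n + 1) * gamma (n + 1) (e - ((i + 1 : ℕ) : K)) ∈ gammaFiltration P (n + 1) := by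
      refine smul_mem_gammaFiltration P _ _ ?_
      simpa using prod_mem_gammaFiltration P [(n + 1, e - ((i + 1 : ℕ) : K))]
        (fun p hp => by simp only [List.mem_singleton] at hp; subst hp; simp [h.aug]) (n + 1) (by simp)
    exact gammaFiltration_antitone P (by omega) (mul_mem_gammaFiltration P ha hg)
  exact key hx

include h in
theorem J_mul {j k : ℕ} {x y : K'} (hx : x ∈ J P Q ℓ r j) (hy : y ∈ J P Q ℓ r k) :
    x * y ∈ J P Q ℓ r (j + k) := by
  have hpow : ∀ i, y * (ℓ - 1) ^ i ∈ J P Q ℓ r (k + i) := fun i => by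
    induction i with
    | zero => simpa using hy
    | succ i ih => rw [pow_succ, ← mul_assoc, ← Nat.add_assoc]; exact J_mul_sub_one h ih
  have key : J P Q ℓ r j ≤ (J P Q ℓ r (j + k)).comap (AddMonoidHom.mulRight y) := by
    refine J_le fun i hi a ha => ?_
    show Q a * (ℓ - 1) ^ i * y ∈ J P Q ℓ r (j + k)
    have h2 : J P Q ℓ r (k + i) ≤ (J P Q ℓ r (j + k)).comap (AddMonoidHom.mulLeft (Q a)) := by
      refine J_le fun l hl b hb => ?_
      show Q a * (Q b * (ℓ - 1) ^ l) ∈ J P Q ℓ r (j + k)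
      rw [← mul_assoc, ← map_mul]
      exact mem_J hl (gammaFiltration_antitone P (by omega) (mul_mem_gammaFiltration P ha hb))
    rw [mul_assoc, mul_comm ((ℓ - 1) ^ i) y]
    exact h2 (hpow i)
  exact key hx

include h in
theorem J_zero (z : K') : z ∈ J P Q ℓ r 0 := by
  have hl : ℓ ∈ J P Q ℓ r 0 := by
    have h0 : (1 : K') ∈ J P Q ℓ r 0 := one_mem_J
    have h1 : 1 * (ℓ - 1) ∈ J P Q ℓ r 0 := J_antitone (Nat.zero_le 1) (J_mul_sub_one h h0)
    simpa using add_mem h1 h0
  refine (AddSubgroup.closure_le _).2 ?_ (h.span z)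
  rintro _ ⟨y, i, rfl⟩
  induction i with
  | zero => simpa using of_mem_J (P := P) (Q := Q) (ℓ := ℓ) (r := r) (a := y) (k := 0) (by simp [gammaFiltration])
  | succ i ih =>
    show Q y * ℓ ^ (i + 1) ∈ J P Q ℓ r 0
    rw [pow_succ, ← mul_assoc]
    simpa using J_mul h (j := 0) (k := 0) ih hl

include h in
theorem gammaFiltration_le (k : ℕ) : gammaFiltration P' k ≤ J P Q ℓ r k := by
  rcases Nat.eq_zero_or_pos k with rfl | hk
  · exact fun z _ => J_zero h z
  let S : AddSubgroup K' :=
    { carrier := {z | ∀ n, gamma n z ∈ J P Q ℓ r n}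
      zero_mem' := fun n => by
        rcases Nat.eq_zero_or_pos n with rfl | hn
        · rw [gamma_zero]; exact one_mem_J
        · rw [gamma_zero_arg n hn]; exact zero_mem _
      add_mem' := fun {a b} ha hb n => by
        rw [gamma_add]
        refine sum_mem fun i hi => ?_
        have h2 := J_mul h (ha i) (hb (n - i))
        rwa [Nat.add_sub_cancel' (by have := mem_range.1 hi; omega)] at h2
      neg_mem' := fun {a} ha n => by
        induction n using Nat.strong_induction_on with
        | _ n ih =>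
          rcases Nat.eq_zero_or_pos n with rfl | hn
          · rw [gamma_zero]; exact one_mem_J
          have h3 := gamma_add n a (-a)
          rw [add_neg_cancel, gamma_zero_arg n hn, sum_range_succ', gamma_zero, one_mul, Nat.sub_zero, eq_comm] at h3
          rw [eq_neg_of_add_eq_zero_right h3]
          refine neg_mem (sum_mem fun i hi => ?_)
          have := mem_range.1 hi
          have h2 := J_mul h (ha (i + 1)) (ih (n - (i + 1)) (by omega))
          rwa [Nat.add_sub_cancel' (by omega)] at h2 }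
  have hu1 : ∀ i : ℕ, ℓ ^ i - 1 ∈ J P Q ℓ r 1 := fun i => by
    rw [← geom_sum_mul]
    exact J_mul_sub_one h (J_zero h _)
  have hpowline : ∀ i : ℕ, ℓ ^ i - 1 ∈ S := fun i n => by
    have h1 := fun j hj => Groth.L22.Lambda.lam_eq_zero_of_isLine P' (Groth.L22.Lambda.isLine_one P') (i := j) hj
    rw [← coeff_gammaSeries, gammaSeries_sub_one h1
      fun j hj => Groth.L22.Lambda.lam_eq_zero_of_isLine P' (Groth.L22.Lambda.isLine_pow P' h.line i) hj,
      Groth.L22.Lambda.coeff_one_add_C_mul_X]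
    split_ifs with h' h''
    · subst h'; exact one_mem_J
    · subst h''; exact hu1 i
    · exact zero_mem _
  have hmulline : ∀ (i : ℕ) (b : K), P.aug b = 0 → ℓ ^ i * Q b ∈ S := fun i b hb n => by
    rcases Nat.eq_zero_or_pos n with rfl | hn
    · rw [gamma_zero]; exact one_mem_J
    obtain ⟨N, rfl⟩ : ∃ N, n = N + 1 := ⟨n - 1, by omega⟩
    rw [Groth.L13.ElemExt.gamma_succ_line_mul (ℓ ^ i) (Q b) fun j =>
      h.lam_line _ (Groth.L22.Lambda.isLine_pow P' h.line i) j (Q b)]
    refine sum_mem fun j hj => ?_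
    have := mem_range.1 hj
    have hpow : ∀ d, (-(ℓ ^ i - 1)) ^ d ∈ J P Q ℓ r d := fun d => by
      induction d with
      | zero => rw [pow_zero]; exact one_mem_J
      | succ d ih => rw [pow_succ]; exact J_mul h ih (neg_mem (hu1 i))
    rw [gamma_Q h, mul_assoc _ ((ℓ ^ i) ^ (j + 1)) (N.choose j : K')]
    have hg : gamma (j + 1) b ∈ gammaFiltration P (j + 1) := by
      simpa using prod_mem_gammaFiltration P [(j + 1, b)]
        (fun p hp => by simp only [List.mem_singleton] at hp; subst hp; exact hb) (j + 1) (by simp)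
    have := J_mul h (J_mul h (hpow (N - j)) (J_zero h ((ℓ ^ i) ^ (j + 1) * (N.choose j : K')))) (of_mem_J hg)
    rwa [show N - j + 0 + (j + 1) = N + 1 by omega] at this
  have hS : ∀ z : K', z - (P'.aug z : K') ∈ S := fun z => by
    have hz := h.span z
    induction hz using AddSubgroup.closure_induction with
    | mem w hw =>
      obtain ⟨y, i, rfl⟩ := hw
      rw [map_mul, map_pow, h.line.2, one_pow, mul_one, h.aug_Q,
        show Q y * ℓ ^ i - (P.aug y : K') = ℓ ^ i * Q (y - (P.aug y : K)) + P.aug y • (ℓ ^ i - 1) by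
          rw [map_sub, map_intCast, zsmul_eq_mul]; ring]
      exact add_mem (hmulline i _ (by simp)) (zsmul_mem (hpowline i) _)
    | zero => simp only [map_zero, Int.cast_zero, sub_zero]; exact zero_mem _
    | add a b _ _ ha hb =>
      rw [map_add, Int.cast_add, add_sub_add_comm]
      exact add_mem ha hb
    | neg a _ ha =>
      rw [map_neg, Int.cast_neg, neg_sub_neg, ← neg_sub]
      exact neg_mem ha
  rw [gammaFiltration, if_neg (by omega), AddSubgroup.closure_le]
  rintro y ⟨l, hl, hw, rfl⟩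
  refine J_antitone hw ?_
  clear hw
  induction l with
  | nil => simpa using one_mem_J
  | cons p l ih =>
    simp only [List.map_cons, List.sum_cons, List.prod_cons]
    refine J_mul h ?_ (ih fun p' hp' => hl p' (List.mem_cons_of_mem _ hp'))
    have h2 := hS p.2 p.1
    rwa [hl p (List.mem_cons_self ..), Int.cast_zero, sub_zero] at h2

include h in
theorem gammaFiltration_map_le (k : ℕ) : gammaFiltration P k ≤ (gammaFiltration P' k).comap Q.toAddMonoidHom := by
  rcases Nat.eq_zero_or_pos k with rfl | hk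
  · exact fun x _ => by simp [gammaFiltration]
  nth_rewrite 1 [gammaFiltration]
  rw [if_neg (by omega), AddSubgroup.closure_le]
  rintro y ⟨l, hl, hw, rfl⟩
  change Q _ ∈ gammaFiltration P' k
  have := prod_mem_gammaFiltration P' (l.map fun p => (p.1, Q p.2))
    (fun p hp => by
      obtain ⟨q, hq, rfl⟩ := List.mem_map.1 hp
      rw [h.aug_Q]; exact hl q hq) k (by simpa [List.map_map, Function.comp_def] using hw)
  rw [List.map_map] at this
  rw [map_list_prod, List.map_map]
  simp only [Function.comp_def, gamma_Q h] at this ⊢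
  exact this

include h in
/-- With `1, ℓ, …, ℓ^r` independent, the filtration pulls back. -/
theorem comap_eq (hind : ∀ a : ℕ → K, ∑ i ∈ range (r + 1), Q (a i) * ℓ ^ i = 0 → ∀ i ≤ r, a i = 0) (k : ℕ) :
    (gammaFiltration P' k).comap Q.toAddMonoidHom = gammaFiltration P k := by
  refine le_antisymm (fun x hx => ?_) (gammaFiltration_map_le h k)
  obtain ⟨a, ha, hxa⟩ : ∃ a : ℕ → K, (∀ i, a i ∈ gammaFiltration P (k - i)) ∧
      Q x = ∑ i ∈ range (r + 1), Q (a i) * (ℓ - 1) ^ i := by
    have hy := gammaFiltration_le h k hx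
    change Q x ∈ J P Q ℓ r k at hy
    generalize Q x = y at hy ⊢
    induction hy using AddSubgroup.closure_induction with
    | mem w hw =>
      obtain ⟨i, a, hi, ha, rfl⟩ := hw
      refine ⟨Pi.single i a, fun j => ?_, ?_⟩
      · rcases eq_or_ne j i with rfl | hne
        · rwa [Pi.single_eq_same]
        · rw [Pi.single_eq_of_ne hne]; exact zero_mem _
      · rw [sum_eq_single i (fun j _ hne => by rw [Pi.single_eq_of_ne hne, map_zero, zero_mul])
          (fun hni => absurd (mem_range.2 (by omega)) hni), Pi.single_eq_same]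
    | zero => exact ⟨0, fun _ => zero_mem _, by simp⟩
    | add y z _ _ hy hz =>
      obtain ⟨a, ha, rfl⟩ := hy
      obtain ⟨b, hb, rfl⟩ := hz
      exact ⟨a + b, fun i => add_mem (ha i) (hb i), by simp [add_mul, sum_add_distrib]⟩
    | neg y _ hy =>
      obtain ⟨a, ha, rfl⟩ := hy
      exact ⟨-a, fun i => neg_mem (ha i), by simp [sum_neg_distrib]⟩
  open Polynomial in
  let p : K[X] := ∑ i ∈ range (r + 1), monomial i (a i) - C x
  open Polynomial in
  have hp : p.natDegree ≤ r := by
    refine (natDegree_sub_le _ _).trans (max_le (natDegree_sum_le_of_forall_le _ _ fun i hi => ?_) (by simp))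
    exact (natDegree_monomial_le _).trans (by have := mem_range.1 hi; omega)
  open Polynomial in
  have hp0 : p = 0 := by
    have h1 : p.eval₂ Q (ℓ - 1) = 0 := by
      simp only [p, eval₂_sub, eval₂_C, eval₂_finset_sum, eval₂_monomial, ← hxa, sub_self]
    let p' : K[X] := p.comp (X - C 1)
    have hp' : p'.natDegree ≤ r :=
      natDegree_comp_le.trans ((Nat.mul_le_mul hp (natDegree_X_sub_C_le 1)).trans (by simp))
    have h2 : p'.eval₂ Q ℓ = 0 := by
      simp only [p', eval₂_comp, eval₂_sub, eval₂_X, eval₂_one, map_one]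
      exact h1
    rw [eval₂_eq_sum_range' Q (Nat.lt_succ_of_le hp') ℓ] at h2
    have h3 := hind _ h2
    have h4 : p' = 0 := Polynomial.ext fun i => by
      rcases Nat.lt_or_ge r i with hi | hi
      · rw [coeff_eq_zero_of_natDegree_lt (by omega), coeff_zero]
      · rw [h3 i hi, coeff_zero]
    have h5 : p = p'.comp (X + C 1) := by
      simp only [p', comp_assoc, sub_comp, X_comp, C_comp, add_sub_cancel_right, comp_X]
    rw [h5, h4, zero_comp]
  have hc := congrArg (fun f : Polynomial K => f.coeff 0) hp0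
  simp only [p, Polynomial.coeff_sub, Polynomial.finsetSum_coeff, Polynomial.coeff_monomial, Polynomial.coeff_C_zero,
    Polynomial.coeff_zero, Finset.sum_ite_eq', mem_range, Nat.succ_pos, if_true] at hc
  have := ha 0
  rwa [sub_eq_zero.1 hc, Nat.sub_zero] at this

end Groth.L12.KBun.Gamma
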