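import Groth.Agent.L12.KBun.Basis
import Groth.Agent.L12.KBun.Gamma
import Groth.Agent.L12.KBun.Exist

/-!
# The splitting principle for `K` of a connected Noetherian scheme
-/

set_option autoImplicit false
set_option maxHeartbeats 800000
set_option linter.style.haveILetI false
set_option linter.unusedSectionVars false
set_option backward.isDefEq.respectTransparency false
set_option backward.isDefEq.respectTransparency.types false

universe w v u

open CategoryTheory CategoryTheory.Limits AlgebraicGeometry LambdaRing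

attribute [local instance] HasDerivedCategory.standard

noncomputable section

namespace Groth.L12.KBun

theorem isPull_comp {X Y Z : Scheme.{u}} {f : X ⟶ Y} {f' : Y ⟶ Z} {KX : Type w} [CommRing KX] {KY : Type w}
    [CommRing KY] {KZ : Type v} [CommRing KZ] {φX : SGA6.Kvb X →+ KX} {φY : SGA6.Kvb Y →+ KY}
    {φZ : SGA6.Kvb Z →+ KZ} {g : KY →+ KX} (hg : _root_.KRR.IsPull f φY φX g) {g' : KZ →+ KY}
    (hg' : _root_.KRR.IsPull f' φZ φY g') : _root_.KRR.IsPull (f ≫ f') φZ φX (g.comp g') := fun E hE => by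
  have hE' := Groth.L29.LocFree.pullback f' hE
  show g (g' _) = _
  rw [hg' E hE, hg _ hE']
  exact congrArg φX (Groth.L12.Kvb.cl_iso ((Scheme.Modules.pullbackComp f f').app E)
    (Groth.L29.LocFree.pullback f hE'))

/-- One step of the splitting. -/
theorem exists_step {X : Scheme.{u}} [IsNoetherian X] [ConnectedSpace X] {K : Type (u + 1)} [CommRing K]
    [LambdaOps K] {PK : PosStructure K} {φ : SGA6.Kvb X →+ K} (hK : _root_.KRR.IsModel X K PK φ) {r : ℕ}
    {E : X.Modules} (hE : FlatMod.IsFinLocFreeOfRank (r + 1) E) :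
    ∃ (Y : Scheme.{u}) (_ : IsNoetherian Y) (_ : ConnectedSpace Y) (π : Y ⟶ X)
      (g : K →+ Groth.L12.Kvb.KR Y) (_ : _root_.KRR.IsPull π φ (Groth.L12.Kvb.toKR Y) g),
      Function.Injective g ∧
      (∀ k, (gammaFiltration (Groth.L12.Kvb.posStructure (X := Y)) k).comap g = gammaFiltration PK k) ∧
      ∃ (L W : Y.Modules), FlatMod.IsFinLocFreeOfRank 1 L ∧ FlatMod.IsFinLocFreeOfRank r W ∧
        g (φ (_root_.KRR.cl X E)) =
          Groth.L12.Kvb.toKR Y (_root_.KRR.cl Y W) + Groth.L12.Kvb.toKR Y (_root_.KRR.cl Y L) := by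
  obtain ⟨Y, π, O1, q, hPB, hY, hYc⟩ := exists_projBundle X hE
  have hKY := Groth.L12.Kvb.isModel (X := Y)
  obtain ⟨g, hg⟩ := Groth.L12.KRR.exists_isPull π (φX := Groth.L12.Kvb.toKR Y) hK.bijective
  obtain ⟨A⟩ := exists_atlas hPB hE
  obtain ⟨L, D⟩ := exists_data hPB hE hK hKY hg
  haveI := Groth.L29.DC.PCQCoh.isQCoh_of_isFinLocFree D.vbE
  haveI := Groth.L29.DC.PCQCoh.isQCoh_of_isFinLocFree D.vbW
  haveI := Groth.L29.DC.PCQCoh.isQCoh_of_isFinLocFree (Groth.L18.KRRAmple.isFinLocFree_of_rank hPB.invertible)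
  obtain ⟨Q, hQ⟩ := Groth.L12.KRR.exists_pullHom hKY hK hg
  set ℓ := Groth.L12.Kvb.toKR Y (_root_.KRR.cl Y O1)
  have hspan : ∀ x, x ∈ AddSubgroup.closure {z | ∃ (y : K) (i : ℕ), z = Q y * ℓ ^ i} := fun x => by
    obtain ⟨a, rfl⟩ := D.surjective_comb A x
    rw [D.comb_apply]
    exact sum_mem fun i _ => AddSubgroup.subset_closure ⟨a i, i, by rw [hQ]⟩
  have hrel := taut_relation hPB hE hK hKY hg
  have hext : Gamma.Ext PK (Groth.L12.Kvb.posStructure (X := Y)) Q ℓ (φ (_root_.KRR.cl X E)) r :=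
    { lam_Q := fun i x => by rw [hQ, hQ]; exact Groth.L12.KRR.pull_lam hKY hK hg i x
      aug_Q := fun x => by rw [hQ]; exact Groth.L12.KRR.aug_pull hKY hK hg x
      line := isLine_O1 hPB hKY
      lam_line := fun u hu i x => Groth.L12.KRR.lam_line_mul hKY hu i x
      span := hspan
      pos := (hK.mem_pos_iff _).2 ⟨r + 1, E, by omega, hE, rfl⟩
      aug := by rw [hK.aug_cl _ _ hE]; push_cast; rfl
      rel := by simp only [hQ]; exact hrel }
  refine ⟨Y, hY, hYc, π, g, hg, D.injective_pull A, fun k => ?_, O1, (tautSC q).X₁, hPB.invertible,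
    rank_taut hPB hE, ?_⟩
  · rw [← Gamma.comap_eq hext (fun a ha i hi => D.indep A (a := a) (by simpa only [hQ] using ha) hi) k]
    exact congrArg (fun f => (gammaFiltration _ k).comap f) (AddMonoidHom.ext fun x => (hQ x).symm)
  · rw [hg E D.vbE]
    exact cl_pull_eq hPB hE (Groth.L29.LocFree.pullback π D.vbE)

/-- The splitting principle. -/
theorem exists_split : ∀ (m : ℕ) (X : Scheme.{u}) [IsNoetherian X] [ConnectedSpace X] (K : Type (u + 1))
    [CommRing K] [LambdaOps K] (PK : PosStructure K) (φ : SGA6.Kvb X →+ K),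
    _root_.KRR.IsModel X K PK φ → ∀ E : X.Modules, FlatMod.IsFinLocFreeOfRank m E →
    ∃ (X' : Scheme.{u}) (_ : IsNoetherian X') (_ : ConnectedSpace ↥X') (f : X' ⟶ X)
      (K' : Type (u + 1)) (_ : CommRing K') (_ : LambdaOps K') (P' : PosStructure K')
      (φ' : SGA6.Kvb X' →+ K') (_ : _root_.KRR.IsModel X' K' P' φ') (g : K →+ K')
      (_ : _root_.KRR.IsPull f φ φ' g),
      Function.Injective g ∧ (∀ k : ℕ, (gammaFiltration P' k).comap g = gammaFiltration PK k) ∧
      ∃ L : Fin m → X'.Modules, (∀ j, FlatMod.IsFinLocFreeOfRank 1 (L j)) ∧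
        g (φ (_root_.KRR.cl X E)) = ∑ j, φ' (_root_.KRR.cl X' (L j))
  | 0, X, _, _, K, _, _, PK, φ, hK, E, hE => by
    refine ⟨X, inferInstance, inferInstance, 𝟙 X, K, inferInstance, inferInstance, PK, φ, hK,
      AddMonoidHom.id K, fun F hF => congrArg φ
        (Groth.L12.Kvb.cl_iso ((Scheme.Modules.pullbackId X).app F).symm hF),
      fun _ _ h => h, fun k => AddSubgroup.ext fun _ => Iff.rfl, Fin.elim0, fun j => j.elim0, ?_⟩
    rw [show _root_.KRR.cl X E = 0 from Groth.L29.KSub.clSub_zero (_root_.KRR.vbP X)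
      (Groth.L12.Kvb.isZero_of_rank_zero hE) (Groth.L18.KRRAmple.isFinLocFree_of_rank hE), map_zero, map_zero]
    simp
  | r + 1, X, _, _, K, _, _, PK, φ, hK, E, hE => by
    obtain ⟨Y, _, _, π, g₁, hg₁, hinj₁, hfil₁, L₀, W, hL₀, hW, he⟩ := exists_step hK hE
    obtain ⟨X', iN, iC, f, K', iR, iO, P', φ', hK', g₂, hg₂, hinj₂, hfil₂, L, hL, he₂⟩ :=
      exists_split r Y _ _ _ (Groth.L12.Kvb.isModel (X := Y)) W hW
    refine ⟨X', iN, iC, f ≫ π, K', iR, iO, P', φ', hK', g₂.comp g₁, isPull_comp hg₂ hg₁,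
      hinj₂.comp hinj₁, fun k => ?_, Fin.cons ((Scheme.Modules.pullback f).obj L₀) L, fun j => ?_, ?_⟩
    · rw [← AddSubgroup.comap_comap, hfil₂, hfil₁]
    · induction j using Fin.cases with
      | zero => exact Groth.L18.MapEpi.isFinLocFreeOfRank_pullback f hL₀
      | succ j => simpa only [Fin.cons_succ] using hL j
    · show g₂ (g₁ _) = _
      rw [he, map_add, he₂, hg₂ L₀ (Groth.L18.KRRAmple.isFinLocFree_of_rank hL₀), Fin.sum_univ_succ,
        Fin.cons_zero, add_comm]
      simp only [Fin.cons_succ]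

end Groth.L12.KBun
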