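import Groth.Agent.L12.KBun.Push
import Mathlib.Order.Filter.Germ.Basic

/-!
# `K` of a projective bundle is free over the base
-/

set_option autoImplicit false
set_option maxHeartbeats 800000
set_option linter.style.haveILetI false
set_option linter.unusedSectionVars false
set_option backward.isDefEq.respectTransparency false
set_option backward.isDefEq.respectTransparency.types false

universe v u

open CategoryTheory CategoryTheory.Limits AlgebraicGeometry TopologicalSpace Opposite LambdaRing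

attribute [local instance] HasDerivedCategory.standard

noncomputable section

namespace Groth.L12.KBun

open Groth.L00.Tensor (tensorIso tensorRightF tensorUnitRight tensorUnitLeft tensorAssoc tensorComm tensorPowAdd)

variable {S P : Scheme.{u}} [IsNoetherian S] [ConnectedSpace S] [ConnectedSpace P] {π : P ⟶ S} {O1 L : P.Modules}
  {r : ℕ} {E : S.Modules} {q : (Scheme.Modules.pullback π).obj E ⟶ O1}
  {KS : Type v} [CommRing KS] [LambdaOps KS] {PS : PosStructure KS} {φS : SGA6.Kvb S →+ KS}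
  {KP : Type v} [CommRing KP] [LambdaOps KP] {PP : PosStructure KP} {φP : SGA6.Kvb P →+ KP} {g : KS →+ KP}

theorem exists_data (hPB : _root_.KRR.IsProjBundle π E O1 q) (hE : FlatMod.IsFinLocFreeOfRank (r + 1) E)
    (hKS : _root_.KRR.IsModel S KS PS φS) (hKP : _root_.KRR.IsModel P KP PP φP)
    (hg : _root_.KRR.IsPull π φS φP g) : ∃ L : P.Modules, Data π q L r PS φS PP φP g := by
  obtain ⟨L, hL, ⟨u⟩⟩ := Groth.L08.Cube.exists_inverse (Groth.L22.GenRank.isInvertible_of_rank_one hPB.invertible)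
  exact ⟨L, hPB, hE, hKS, hKP, hg, hL, ⟨tensorComm _ _ ≪≫ u⟩⟩

namespace Data

variable (D : Data π q L r PS φS PP φP g) (A : Atlas π O1 r)
variable [Coh.IsQCoh E] [Coh.IsQCoh (tautSC q).X₁] [Coh.IsQCoh O1]

/-- The sequence of the direct images of the twists of `M`. -/
def seq (_D : Data π q L r PS φS PP φP g) (M : P.Modules) : (Filter.atTop : Filter ℕ).Germ KS :=
  ((fun m : ℕ => pcl π φS (CohB1.tensorMod M (CohB1.tensorPow O1 m))) : ℕ → KS)

include A D in
theorem seq_add (T : ShortComplex P.Modules) (hT : T.ShortExact) (h₁ : FlatMod.IsFinLocFree T.X₁)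
    (h₂ : FlatMod.IsFinLocFree T.X₂) (h₃ : FlatMod.IsFinLocFree T.X₃) :
    D.seq T.X₂ = D.seq T.X₁ + D.seq T.X₃ := by
  haveI := A.isProper
  haveI : IsLocallyNoetherian P := LocallyOfFiniteType.isLocallyNoetherian π
  obtain ⟨d₁, hd₁⟩ := exists_eventual A (Groth.L16.NegPow.isCoh_of_isFinLocFree h₁) D.hO
  obtain ⟨d₂, hd₂⟩ := exists_eventual A (Groth.L16.NegPow.isCoh_of_isFinLocFree h₂) D.hO
  obtain ⟨d₃, hd₃⟩ := exists_eventual A (Groth.L16.NegPow.isCoh_of_isFinLocFree h₃) D.hO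
  let f : P.Modules → ℕ → KS := fun M m => pcl π φS (CohB1.tensorMod M (CohB1.tensorPow O1 m))
  have hev : f T.X₂ =ᶠ[Filter.atTop] f T.X₁ + f T.X₃ := by
    refine Filter.eventually_atTop.2 ⟨max d₁ (max d₂ d₃), fun m hm => ?_⟩
    have hg₁ : Good A (CohB1.tensorMod T.X₁ (tw O1 L (m : ℤ))) :=
      good_tw A D.hO D.hL D.hLO h₁ fun q hq => hd₁ m (by omega) q hq
    have hg₂ : Good A (CohB1.tensorMod T.X₂ (tw O1 L (m : ℤ))) :=
      good_tw A D.hO D.hL D.hLO h₂ fun q hq => hd₂ m (by omega) q hq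
    have hg₃ : Good A (CohB1.tensorMod T.X₃ (tw O1 L (m : ℤ))) :=
      good_tw A D.hO D.hL D.hLO h₃ fun q hq => hd₃ m (by omega) q hq
    exact pcl_shortExact A φS
      (T := T.map (tensorRightF (tw O1 L (m : ℤ))))
      (Groth.L03.Euler.shortExact_tensor (isInvertible_tw D.hO D.hL (m : ℤ)) hT) hg₁ hg₂ hg₃
  exact (Filter.Germ.coe_eq.2 hev).trans (Filter.Germ.coe_add (f T.X₁) (f T.X₃))

include A in
theorem exists_germHom : ∃ Φ : KP →+ (Filter.atTop : Filter ℕ).Germ KS, ∀ M : P.Modules,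
    FlatMod.IsFinLocFree M → Φ (φP (_root_.KRR.cl P M)) = D.seq M := by
  let e := AddEquiv.ofBijective φP D.hKP.bijective
  refine ⟨(Groth.L29.KSub.lift (P := _root_.KRR.vbP P) D.seq (D.seq_add A)).comp e.symm.toAddMonoidHom,
    fun M hM => ?_⟩
  show Groth.L29.KSub.lift D.seq (D.seq_add A) (e.symm (e (_root_.KRR.cl P M))) = _
  rw [e.symm_apply_apply]
  exact Groth.L29.KSub.lift_clSub _ _ hM

include A in
theorem seq_pull {N : S.Modules} (hN : FlatMod.IsFinLocFree N) (i : ℕ) :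
    D.seq (CohB1.tensorMod ((Scheme.Modules.pullback π).obj N) (CohB1.tensorPow O1 i)) =
      ((fun m : ℕ => φS (_root_.KRR.cl S N) * D.s ((i + m : ℕ) : ℤ)) : ℕ → KS) := by
  refine congrArg Filter.Germ.ofFun (funext fun m => ?_)
  have h := D.good_pull A hN (d := ((i + m : ℕ) : ℤ)) (by omega)
  exact (pcl_iso A φS (tensorIso (Iso.refl _) (tensorPowAdd O1 i m).symm ≪≫ (tensorAssoc _ _ _).symm) h).symm.trans
    (pcl_pull_tensor A φS D.hKS hN (M := tw O1 L ((i + m : ℕ) : ℤ)) (D.good_O A (by omega)))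

include A D in
/-- A relation among the twists gives a relation among their direct images. -/
theorem eventually_eq_zero {a : ℕ → KS}
    (h : ∑ i ∈ Finset.range (r + 1), g (a i) * φP (_root_.KRR.cl P O1) ^ i = 0) :
    ∃ N : ℕ, ∀ m : ℕ, N ≤ m → ∑ i ∈ Finset.range (r + 1), a i * D.s ((i + m : ℕ) : ℤ) = 0 := by
  obtain ⟨Φ, hΦ⟩ := D.exists_germHom A
  set ℓ := φP (_root_.KRR.cl P O1)
  have key : ∀ (i : ℕ) (x : KS), Φ (g x * ℓ ^ i) = ((fun m : ℕ => x * D.s ((i + m : ℕ) : ℤ)) : ℕ → KS) := by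
    intro i x
    have hc : ∀ N : S.Modules, FlatMod.IsFinLocFree N → Φ (g (φS (_root_.KRR.cl S N)) * ℓ ^ i) =
        ((fun m : ℕ => φS (_root_.KRR.cl S N) * D.s ((i + m : ℕ) : ℤ)) : ℕ → KS) := fun N hN => by
      obtain ⟨hp, hpc⟩ := Groth.L12.KRR.cl_tensorPow D.hKP D.hO i
      have hN' := Groth.L29.LocFree.pullback π hN
      have hp' := Groth.L16.Existence.isFinLocFree_of_isInvertible hp
      rw [D.hg N hN, ← hpc, D.hKP.map_mul _ _ hN' hp']
      exact (hΦ _ (Groth.L29.DC.isFinLocFree_tensor hN' hp')).trans (D.seq_pull A hN i)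
    obtain ⟨F, G, hF, hG, rfl⟩ := Groth.L12.KRR.exists_sub_cl D.hKS x
    rw [map_sub, sub_mul, map_sub, hc F hF, hc G hG, ← Filter.Germ.coe_sub]
    exact congrArg Filter.Germ.ofFun (funext fun m => (sub_mul _ _ _).symm)
  have h' := congrArg Φ h
  rw [map_sum, map_zero, Finset.sum_congr rfl fun i _ => key i (a i)] at h'
  have hs : (∑ i ∈ Finset.range (r + 1),
      (((fun m : ℕ => a i * D.s ((i + m : ℕ) : ℤ)) : ℕ → KS) : (Filter.atTop : Filter ℕ).Germ KS)) =
      ((∑ i ∈ Finset.range (r + 1), fun m : ℕ => a i * D.s ((i + m : ℕ) : ℤ) : ℕ → KS)) :=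
    (map_sum (Filter.Germ.coeAddHom (Filter.atTop : Filter ℕ) (M := KS)) _ _).symm
  rw [hs] at h'
  obtain ⟨N, hN⟩ := Filter.eventually_atTop.1 (Filter.Germ.coe_eq.1 h')
  exact ⟨N, fun m hm => by simpa [Finset.sum_apply] using hN m hm⟩

include D in
theorem isUnit_lam_top : IsUnit (LambdaOps.lam (r + 1) (φS (_root_.KRR.cl S E))) := by
  have h := PS.isUnit_lam _ ((D.hKS.mem_pos_iff _).2 ⟨r + 1, E, by omega, D.hE, rfl⟩)
  rwa [D.hKS.aug_cl _ _ D.hE, Int.toNat_natCast] at h

include A D in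
/-- The powers `ℓ^i`, `i ≤ r`, are independent over `K(S)`. -/
theorem indep {a : ℕ → KS} (h : ∑ i ∈ Finset.range (r + 1), g (a i) * φP (_root_.KRR.cl P O1) ^ i = 0)
    {i : ℕ} (hi : i ≤ r) : a i = 0 := by
  obtain ⟨N, hN⟩ := D.eventually_eq_zero A h
  let t : ℤ → KS := fun m => ∑ i ∈ Finset.range (r + 1), a i * D.s ((i : ℤ) + m)
  let c : ℕ → KS := fun j => (-1 : KS) ^ j * LambdaOps.lam j (φS (_root_.KRR.cl S E))
  have trec : ∀ M : ℤ, 1 ≤ M → ∑ j ∈ Finset.range (r + 2), c j * t (M - j) = 0 := fun M hM => by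
    simp only [t, Finset.mul_sum]
    rw [Finset.sum_comm]
    refine Finset.sum_eq_zero fun l hl => ?_
    rw [Finset.sum_congr rfl fun j _ => show c j * (a l * D.s ((l : ℤ) + (M - j))) =
      a l * ((-1 : KS) ^ j * LambdaOps.lam j (φS (_root_.KRR.cl S E)) * D.s ((l : ℤ) + M - j)) by
        rw [add_sub_assoc]; ring, ← Finset.mul_sum, D.s_rec A (by omega), mul_zero]
  have desc : ∀ k : ℕ, ∀ m : ℤ, -(r : ℤ) ≤ m → (N : ℤ) - k ≤ m → t m = 0 := by
    intro k
    induction k with
    | zero =>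
      intro m _ hm
      obtain ⟨n, rfl⟩ : ∃ n : ℕ, m = n := ⟨m.toNat, by omega⟩
      exact hN n (by omega)
    | succ k ih =>
      intro m hm hm'
      by_cases hk : (N : ℤ) - k ≤ m
      · exact ih m hm hk
      have h1 := trec (m + (r + 1 : ℕ)) (by omega)
      rw [Finset.sum_range_succ, Finset.sum_eq_zero fun j hj => by
          have := Finset.mem_range.1 hj
          rw [ih _ (by omega) (by omega), mul_zero],
        zero_add, add_sub_cancel_right] at h1
      exact (((isUnit_one.neg).pow (r + 1)).mul D.isUnit_lam_top).mul_right_eq_zero.1 h1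
  suffices H : ∀ k i : ℕ, i + k = r → a i = 0 from H (r - i) i (by omega)
  intro k
  induction k using Nat.strong_induction_on with
  | _ k ih =>
    intro i hik
    have h1 := desc (N + r) (-(i : ℤ)) (by omega) (by omega)
    rw [show t (-(i : ℤ)) = ∑ l ∈ Finset.range (r + 1), a l * D.s ((l : ℤ) + -(i : ℤ)) from rfl,
      Finset.sum_eq_single i (fun l hl hne => ?_) (fun hni => absurd (Finset.mem_range.2 (by omega)) hni),
      add_neg_cancel, D.s_zero A, mul_one] at h1
    · exact h1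
    · have := Finset.mem_range.1 hl
      rcases Nat.lt_or_gt_of_ne hne with hlt | hgt
      · rw [D.s_neg A (by omega) (by omega), mul_zero]
      · rw [ih (r - l) (by omega) l (by omega), zero_mul]

include A D in
theorem injective_pull : Function.Injective g := by
  refine (injective_iff_map_eq_zero g).2 fun x hx => ?_
  refine D.indep A (a := fun i => if i = 0 then x else 0) ?_ (Nat.zero_le r)
  refine Finset.sum_eq_zero fun i _ => ?_
  split_ifs <;> simp [hx]

/-- `(a_i) ↦ Σ g(a_i) ℓ^i`. -/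
def comb (_D : Data π q L r PS φS PP φP g) : (Fin (r + 1) → KS) →+ KP :=
  ∑ i : Fin (r + 1), (AddMonoidHom.mulRight (φP (_root_.KRR.cl P O1) ^ (i : ℕ))).comp
    (g.comp (Pi.evalAddMonoidHom (fun _ => KS) i))

theorem comb_apply (a : Fin (r + 1) → KS) :
    D.comb a = ∑ i : Fin (r + 1), g (a i) * φP (_root_.KRR.cl P O1) ^ (i : ℕ) := by
  simp [comb]

include A in
theorem surjective_comb : Function.Surjective D.comb := by
  classical
  obtain ⟨Q, hQ⟩ := Groth.L12.KRR.exists_pullHom D.hKP D.hKS D.hg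
  set ℓ := φP (_root_.KRR.cl P O1)
  set lm := φP (_root_.KRR.cl P L)
  have hlm : lm * ℓ = 1 := cl_inv_mul D.hKP D.hO D.hL D.hLO
  let M : AddSubgroup KP := D.comb.range
  have hsingle : ∀ (i : ℕ) (y : KS), i ≤ r → g y * ℓ ^ i ∈ M := fun i y hi => by
    refine ⟨Pi.single (⟨i, by omega⟩ : Fin (r + 1)) y, ?_⟩
    rw [comb_apply, Finset.sum_eq_single (⟨i, by omega⟩ : Fin (r + 1))]
    · rw [Pi.single_eq_same]
    · intro j _ hj
      rw [Pi.single_eq_of_ne hj, map_zero, zero_mul]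
    · exact fun h => absurd (Finset.mem_univ _) h
  have hgM : ∀ (y : KS), ∀ z ∈ M, g y * z ∈ M := by
    rintro y z ⟨a, rfl⟩
    rw [comb_apply, Finset.mul_sum]
    exact sum_mem fun i _ => by
      rw [← mul_assoc, ← Groth.L12.KRR.pull_mul D.hKP D.hKS D.hg]
      exact hsingle _ _ (by omega)
  obtain ⟨u, hu⟩ := D.isUnit_lam_top
  have hlmM : lm ∈ M := by
    have hrel := taut_relation D.hPB D.hE D.hKS D.hKP D.hg
    rw [Finset.sum_range_succ, Nat.sub_self, pow_zero, mul_one] at hrel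
    have h1 : g (LambdaOps.lam (r + 1) (φS (_root_.KRR.cl S E))) * lm ∈ M := by
      have h2 : ∑ i ∈ Finset.range (r + 1), (-1 : KP) ^ i * g (LambdaOps.lam i (φS (_root_.KRR.cl S E))) *
          ℓ ^ (r - i) ∈ M := sum_mem fun i hi => by
        have := Finset.mem_range.1 hi
        rw [← hQ, show (-1 : KP) ^ i = Q ((-1) ^ i) by simp, ← map_mul, hQ]
        exact hsingle _ _ (by omega)
      have h3 : ((-1 : KP) ^ (r + 1) * (-1) ^ (r + 1)) * (g (LambdaOps.lam (r + 1) (φS (_root_.KRR.cl S E))) * lm) =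
          -((-1 : KP) ^ (r + 1) * ∑ i ∈ Finset.range (r + 1), (-1 : KP) ^ i *
            g (LambdaOps.lam i (φS (_root_.KRR.cl S E))) * ℓ ^ (r - i)) := by
        have h4 : ∑ i ∈ Finset.range (r + 1), (-1 : KP) ^ i * g (LambdaOps.lam i (φS (_root_.KRR.cl S E))) *
            ℓ ^ (r + 1 - i) = ℓ * ∑ i ∈ Finset.range (r + 1), (-1 : KP) ^ i *
              g (LambdaOps.lam i (φS (_root_.KRR.cl S E))) * ℓ ^ (r - i) := by
          rw [Finset.mul_sum]
          refine Finset.sum_congr rfl fun i hi => ?_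
          have := Finset.mem_range.1 hi
          rw [show r + 1 - i = (r - i) + 1 by omega, pow_succ]
          ring
        rw [h4] at hrel
        generalize ∑ i ∈ Finset.range (r + 1), (-1 : KP) ^ i * g (LambdaOps.lam i (φS (_root_.KRR.cl S E))) *
            ℓ ^ (r - i) = B at hrel
        linear_combination ((-1 : KP) ^ (r + 1) * lm) * hrel - ((-1 : KP) ^ (r + 1) * B) * hlm
      rw [← pow_add, Even.neg_one_pow (Even.add_self _), one_mul] at h3
      rw [h3]
      refine neg_mem ?_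
      rw [show (-1 : KP) ^ (r + 1) = g ((-1) ^ (r + 1)) by rw [← hQ]; simp]
      exact hgM _ _ h2
    have := hgM (↑u⁻¹) _ h1
    rwa [← mul_assoc, ← Groth.L12.KRR.pull_mul D.hKP D.hKS D.hg, ← hu, Units.inv_mul,
      Groth.L12.KRR.pull_one D.hKP D.hKS D.hg, one_mul] at this
  have hmul : ∀ z ∈ M, lm * z ∈ M := by
    rintro z ⟨a, rfl⟩
    rw [comb_apply, Finset.mul_sum]
    refine sum_mem fun i _ => ?_
    rcases Nat.eq_zero_or_pos (i : ℕ) with h0 | hpos
    · rw [h0, pow_zero, mul_one, mul_comm]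
      exact hgM _ _ hlmM
    · obtain ⟨j, hj⟩ : ∃ j, (i : ℕ) = j + 1 := ⟨(i : ℕ) - 1, by omega⟩
      rw [hj, pow_succ, show lm * (g (a i) * (ℓ ^ j * ℓ)) = g (a i) * ℓ ^ j * (lm * ℓ) by ring, hlm, mul_one]
      exact hsingle _ _ (by omega)
  intro x
  show x ∈ M
  refine (AddSubgroup.closure_le M).2 ?_ (mem_closure_twists A D.hKP D.hg D.hO D.hL D.hLO x)
  rintro _ ⟨y, i, rfl⟩
  induction i with
  | zero => simpa using hsingle 0 y (Nat.zero_le _)
  | succ i ih =>
    show g y * lm ^ (i + 1) ∈ M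
    rw [show g y * lm ^ (i + 1) = lm * (g y * lm ^ i) by ring]
    exact hmul _ ih

include A in
theorem bijective_comb : Function.Bijective D.comb := by
  refine ⟨(injective_iff_map_eq_zero D.comb).2 fun a ha => funext fun i => ?_, D.surjective_comb A⟩
  rw [comb_apply] at ha
  have := D.indep A (a := fun j => if h : j < r + 1 then a ⟨j, h⟩ else 0) (i := i) ?_ (by omega)
  · simpa [i.2] using this
  · rw [Finset.sum_range]
    exact (Finset.sum_congr rfl fun j _ => by simp [j.2]).trans ha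

end Data

end Groth.L12.KBun
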