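import Groth.Agent.L12.KBun.Atlas
import Groth.Agent.L16.ProjSpace.Ample
import Groth.Agent.L16.ProjSpace.Dim
import Groth.Agent.L16.ProjSpace.BaseChange
import Groth.Agent.L18.RelAmpleLocal
import Groth.Agent.S2331
import Groth.Agent.S4691

/-!
# Dimension and ample modules of a projective bundle
-/

set_option autoImplicit false
set_option maxHeartbeats 400000
set_option linter.style.haveILetI false
set_option linter.unusedSectionVars false
set_option backward.isDefEq.respectTransparency false
set_option backward.isDefEq.respectTransparency.types false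

universe u

open CategoryTheory CategoryTheory.Limits AlgebraicGeometry TopologicalSpace Opposite

attribute [local instance] HasDerivedCategory.standard

noncomputable section

namespace Groth.L12.KBun

variable {S P : Scheme.{u}} {π : P ⟶ S} {O1 : P.Modules} {r : ℕ} (A : Atlas π O1 r)

include A in
theorem Atlas.topologicalKrullDim_fiber (y : S) : topologicalKrullDim ↥(π.fiber y) = r := by
  have hy : Set.range (S.fromSpecResidueField y) ⊆ Set.range (A.affine y).fromSpec := by
    rw [Scheme.range_fromSpecResidueField, IsAffineOpen.range_fromSpec]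
    exact Set.singleton_subset_iff.2 (A.mem y)
  let l := IsOpenImmersion.lift (A.affine y).fromSpec (S.fromSpecResidueField y) hy
  let φ : Γ(S, A.V y) →+* S.residueField y := (Spec.preimage l).hom
  have hl : Spec.map (CommRingCat.ofHom φ) ≫ (A.affine y).fromSpec = S.fromSpecResidueField y := by
    show Spec.map (Spec.preimage l) ≫ _ = _
    rw [Spec.map_preimage, IsOpenImmersion.lift_fac]
  have h1 := (Groth.L16.ProjSpace.isPullback_map r φ).paste_horiz (A.isPullback y)
  rw [hl] at h1
  let e := IsPullback.isoIsPullback _ _ (IsPullback.of_hasPullback π (S.fromSpecResidueField y)) h1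
  rw [show π.fiber y = pullback π (S.fromSpecResidueField y) from rfl,
    IsHomeomorph.topologicalKrullDim_eq (Scheme.homeoOfIso e) (Scheme.homeoOfIso e).isHomeomorph]
  exact Groth.L16.ProjSpace.topologicalKrullDim_eq_of_field r (S.residueField y)

include A in
theorem Atlas.topologicalKrullDim_le [IsLocallyNoetherian S] :
    topologicalKrullDim ↥P ≤ topologicalKrullDim ↥S + r := by
  haveI := A.isProper
  exact Groth.Agent.S4691.result π r fun y => (A.topologicalKrullDim_fiber y).le

include A in
theorem Atlas.isRelAmple (hO : PicF.IsInvertible O1) : RelAmple.IsRelAmple π O1 := by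
  haveI := A.isProper
  refine Groth.L18.Ample.isRelAmple_of_cover π A.V (top_le_iff.1 fun y _ => Opens.mem_iSup.2 ⟨y, A.mem y⟩) fun y => ?_
  haveI : IsAffine (A.V y : Scheme.{u}) := A.affine y
  refine Groth.L18.Ample.isRelAmple_of_isAmple ((Groth.L18.Ample.isAmple_restrict_iff_pullback _).2 ?_)
  let ε : CohB1.ProjSpace r Γ(S, A.V y) ≅ (π ⁻¹ᵁ A.V y).toScheme :=
    IsOpenImmersion.isoOfRangeEq (A.h y) (π ⁻¹ᵁ A.V y).ι (by rw [Scheme.Opens.range_ι, ← A.range y]; rfl)
  refine (Groth.L18.Ample.isAmple_pullback_congr ε (π ⁻¹ᵁ A.V y).ι (A.h y)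
    (IsOpenImmersion.isoOfRangeEq_hom_fac _ _ _)).1 ?_
  refine Groth.L18.Ample.isAmple_of_iso (A.iso y).symm ?_
  refine Groth.L16.ProjTwist.isAmple_twist (𝒜 := CohB1.polyGrading r Γ(S, A.V y)) (d := 1) one_pos
    (fun i : Fin (r + 1) => ⟨MvPolynomial.X i, Groth.L16.ProjSpace.X_mem r Γ(S, A.V y) i⟩) ?_
  exact top_le_iff.1 fun x _ => Opens.mem_iSup.2 (Groth.L16.ProjSpace.exists_mem_basicOpen_X r Γ(S, A.V y) x)

include A in
theorem Atlas.exists_isAmple (hO : PicF.IsInvertible O1) {L : S.Modules} (hL : CohB1.IsAmple L) :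
    ∃ M : P.Modules, CohB1.IsAmple M := by
  haveI := A.isProper
  haveI : CompactSpace S := hL.2.1
  obtain ⟨n, -, hn⟩ := Groth.Agent.S2331.result π (specULiftZIsTerminal.from S) O1 L (A.isRelAmple hO)
    (Groth.L18.Ample.isRelAmple_of_isAmple hL)
  exact ⟨_, Groth.L18.Ample.isAmple_of_isRelAmple (hn n le_rfl)⟩

end Groth.L12.KBun
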