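import Groth.Agent.L12.KRR.Pull
import Groth.Agent.L13.ElemExt.Gamma

/-!
# Any two models of `K(X)` agree, across universes
-/

set_option autoImplicit false
set_option maxHeartbeats 400000
set_option linter.style.haveILetI false
set_option linter.unusedSectionVars false
set_option backward.isDefEq.respectTransparency false
set_option backward.isDefEq.respectTransparency.types false

universe w v u

open CategoryTheory CategoryTheory.Limits AlgebraicGeometry LambdaRing

attribute [local instance] HasDerivedCategory.standard

noncomputable section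

namespace Groth.L12.KBun

/-- A bijective ring map commuting with `λ` and the augmentations identifies the gamma filtrations. -/
theorem comap_gammaFiltration_of_bijective {K : Type v} [CommRing K] [LambdaOps K] {P : PosStructure K}
    {K' : Type w} [CommRing K'] [LambdaOps K'] {P' : PosStructure K'} (e : K ≃+* K')
    (hlam : ∀ i x, e (LambdaOps.lam i x) = LambdaOps.lam i (e x)) (haug : ∀ x, P'.aug (e x) = P.aug x) (k : ℕ) :
    (gammaFiltration P' k).comap e.toAddMonoidHom = gammaFiltration P k := by
  rcases Nat.eq_zero_or_pos k with rfl | hk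
  · simp [gammaFiltration]
  have hgam : ∀ i x, e (gamma i x) = gamma i (e x) := fun i x => by
    unfold gamma
    split_ifs
    · exact map_one e
    · rw [map_sum]
      refine Finset.sum_congr rfl fun j _ => ?_
      rw [map_mul, map_natCast]
      split_ifs
      · simp
      · rw [hlam]
  have hgam' : ∀ i y, e.symm (gamma i y) = gamma i (e.symm y) := fun i y => by
    rw [e.symm_apply_eq, hgam, e.apply_symm_apply]
  have haug' : ∀ y, P.aug (e.symm y) = P'.aug y := fun y => by rw [← haug, e.apply_symm_apply]
  refine le_antisymm (fun x hx => ?_) ?_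
  · have hle : gammaFiltration P' k ≤ (gammaFiltration P k).comap e.symm.toAddMonoidHom := by
      nth_rewrite 1 [gammaFiltration]
      rw [if_neg (by omega), AddSubgroup.closure_le]
      rintro y ⟨l, hl, hw, rfl⟩
      change e.symm _ ∈ gammaFiltration P k
      have := Groth.L08.Lambda.prod_mem_gammaFiltration P (l.map fun p => (p.1, e.symm p.2))
        (fun p hp => by
          obtain ⟨q, hq, rfl⟩ := List.mem_map.1 hp
          rw [haug']; exact hl q hq) k (by simpa [List.map_map, Function.comp_def] using hw)
      rw [List.map_map] at this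
      rw [map_list_prod, List.map_map]
      simp only [Function.comp_def, hgam'] at this ⊢
      exact this
    have := hle (show e x ∈ gammaFiltration P' k from hx)
    simpa using this
  · nth_rewrite 1 [gammaFiltration]
    rw [if_neg (by omega), AddSubgroup.closure_le]
    rintro y ⟨l, hl, hw, rfl⟩
    change e _ ∈ gammaFiltration P' k
    have := Groth.L08.Lambda.prod_mem_gammaFiltration P' (l.map fun p => (p.1, e p.2))
      (fun p hp => by
        obtain ⟨q, hq, rfl⟩ := List.mem_map.1 hp
        rw [haug]; exact hl q hq) k (by simpa [List.map_map, Function.comp_def] using hw)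
    rw [List.map_map] at this
    rw [map_list_prod, List.map_map]
    simp only [Function.comp_def, hgam] at this ⊢
    exact this

variable {X : Scheme.{u}} {K : Type v} [CommRing K] [LambdaOps K] {P : PosStructure K} {φ : SGA6.Kvb X →+ K}
  {K' : Type w} [CommRing K'] [LambdaOps K'] {P' : PosStructure K'} {φ' : SGA6.Kvb X →+ K'}

/-- Two models of `K(X)` are isomorphic with all their structure. -/
theorem exists_modelEquiv (hK : _root_.KRR.IsModel X K P φ) (hK' : _root_.KRR.IsModel X K' P' φ') :
    ∃ e : K ≃+* K', (∀ E : X.Modules, FlatMod.IsFinLocFree E →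
        e (φ (_root_.KRR.cl X E)) = φ' (_root_.KRR.cl X E)) ∧
      (∀ i x, e (LambdaOps.lam i x) = LambdaOps.lam i (e x)) ∧ ∀ x, P'.aug (e x) = P.aug x := by
  let a := AddEquiv.ofBijective φ hK.bijective
  let a' := AddEquiv.ofBijective φ' hK'.bijective
  let b : K ≃+ K' := a.symm.trans a'
  have hb : ∀ z, b (φ z) = φ' z := fun z => congrArg φ' (a.symm_apply_apply z)
  have hmul : ∀ x y, b (x * y) = b x * b y := by
    have key : ∀ E F : X.Modules, FlatMod.IsFinLocFree E → FlatMod.IsFinLocFree F →
        b (φ (_root_.KRR.cl X E) * φ (_root_.KRR.cl X F)) =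
          b (φ (_root_.KRR.cl X E)) * b (φ (_root_.KRR.cl X F)) := fun E F hE hF => by
      rw [hK.map_mul E F hE hF, hb, hb, hb, hK'.map_mul E F hE hF]
    intro x y
    obtain ⟨E, F, hE, hF, rfl⟩ := Groth.L12.KRR.exists_sub_cl hK x
    obtain ⟨E', F', hE', hF', rfl⟩ := Groth.L12.KRR.exists_sub_cl hK y
    simp only [sub_mul, mul_sub, map_sub, key _ _ hE hE', key _ _ hE hF', key _ _ hF hE', key _ _ hF hF']
  let e : K ≃+* K' := { b with map_mul' := hmul }
  refine ⟨e, fun E _ => hb _, fun i x => ?_, fun x => ?_⟩
  · obtain ⟨E, F, hE, hF, rfl⟩ := Groth.L12.KRR.exists_sub_cl hK x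
    have key : ∀ (E : X.Modules), FlatMod.IsFinLocFree E → ∀ j,
        e (LambdaOps.lam j (φ (_root_.KRR.cl X E))) = LambdaOps.lam j (e (φ (_root_.KRR.cl X E))) := by
      intro E hE j
      haveI := Groth.L29.DC.PCQCoh.isQCoh_of_isFinLocFree hE
      have hL := Groth.L12.ExtSh.isExtPow_wedgeMod E j
      have hLf := Groth.L12.ExtSh.isFinLocFree_wedgeMod hE j
      rw [hK.map_lam j E _ hE hLf hL]
      show b _ = LambdaOps.lam j (b _)
      rw [hb, hb, hK'.map_lam j E _ hE hLf hL]
    induction i using Nat.strong_induction_on with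
    | _ k ih =>
      have h1 := congrArg e (LambdaOps.lam_add k (φ (_root_.KRR.cl X E) - φ (_root_.KRR.cl X F)) (φ (_root_.KRR.cl X F)))
      have h2 := LambdaOps.lam_add k (e (φ (_root_.KRR.cl X E) - φ (_root_.KRR.cl X F))) (e (φ (_root_.KRR.cl X F)))
      rw [sub_add_cancel] at h1
      rw [← map_add, sub_add_cancel, ← key E hE, h1, map_sum, Finset.sum_range_succ, Finset.sum_range_succ,
        Nat.sub_self, LambdaOps.lam_zero, LambdaOps.lam_zero, mul_one, mul_one,
        Finset.sum_congr rfl fun i hi => by rw [map_mul, ih i (Finset.mem_range.1 hi), key F hF]] at h2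
      exact add_left_cancel h2
  · have key : ∀ z ∈ P.pos, P'.aug (e z) = P.aug z := fun z hz => by
      obtain ⟨n, E, -, hE, rfl⟩ := (hK.mem_pos_iff z).1 hz
      rw [show e (φ (_root_.KRR.cl X E)) = φ' (_root_.KRR.cl X E) from hb _, hK.aug_cl n E hE, hK'.aug_cl n E hE]
    obtain ⟨p, n, hp, hn, rfl⟩ := P.exists_sub x
    rw [map_sub, map_sub, map_sub, key p hp, key n hn]

end Groth.L12.KBun
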