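import Groth.Agent.L12.KBun.PushF

/-!
# A map with the values of `π_*` on the twists
-/

set_option autoImplicit false
set_option maxHeartbeats 800000
set_option linter.style.haveILetI false
set_option linter.unusedSectionVars false
set_option backward.isDefEq.respectTransparency false
set_option backward.isDefEq.respectTransparency.types false

universe v u

open CategoryTheory CategoryTheory.Limits AlgebraicGeometry LambdaRing

noncomputable section

namespace Groth.L12.KBun.Data

variable {S P : Scheme.{u}} [IsNoetherian S] [ConnectedSpace S] [ConnectedSpace P] {π : P ⟶ S} {O1 L : P.Modules}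
  {r : ℕ} {E : S.Modules} {q : (Scheme.Modules.pullback π).obj E ⟶ O1}
  {KS : Type v} [CommRing KS] [LambdaOps KS] {PS : PosStructure KS} {φS : SGA6.Kvb S →+ KS}
  {KP : Type v} [CommRing KP] [LambdaOps KP] {PP : PosStructure KP} {φP : SGA6.Kvb P →+ KP} {g : KS →+ KP}
  (D : Data π q L r PS φS PP φP g) (A : Atlas π O1 r)
  [Coh.IsQCoh E] [Coh.IsQCoh (tautSC q).X₁] [Coh.IsQCoh O1]

include D A in
theorem exists_twF : ∃ gF : KP →+ KS, D.TwF gF := by
  classical
  obtain ⟨Q, hQ⟩ := Groth.L12.KRR.exists_pullHom D.hKP D.hKS D.hg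
  let e := AddEquiv.ofBijective D.comb (D.bijective_comb A)
  let p : (Fin (r + 1) → KS) →+ KS :=
    ∑ i : Fin (r + 1), (AddMonoidHom.mulRight (D.s ((i : ℕ) : ℤ))).comp (Pi.evalAddMonoidHom (fun _ => KS) i)
  let gF : KP →+ KS := p.comp e.symm.toAddMonoidHom
  have hp : ∀ b, gF (D.comb b) = ∑ i : Fin (r + 1), b i * D.s ((i : ℕ) : ℤ) := fun b => by
    show p (e.symm (e b)) = _
    rw [e.symm_apply_apply]
    simp [p]
  have hlin : ∀ (a : KS) (x : KP), gF (g a * x) = a * gF x := fun a x => by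
    obtain ⟨b, rfl⟩ := D.surjective_comb A x
    have : g a * D.comb b = D.comb (fun i => a * b i) := by
      rw [D.comb_apply, D.comb_apply, Finset.mul_sum]
      refine Finset.sum_congr rfl fun i _ => ?_
      rw [← mul_assoc, ← Groth.L12.KRR.pull_mul D.hKP D.hKS D.hg]
    rw [this, hp, hp, Finset.mul_sum]
    exact Finset.sum_congr rfl fun i _ => mul_assoc _ _ _
  set ℓ := φP (_root_.KRR.cl P O1)
  let U : KPˣ := ⟨ℓ, φP (_root_.KRR.cl P L), cl_O1_mul_inv D,
    (mul_comm _ _).trans (cl_O1_mul_inv D)⟩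
  have hO : ∀ k : ℕ, φP (_root_.KRR.cl P (CohB1.tensorPow O1 k)) = ℓ ^ k := by
    intro k
    induction k with
    | zero => rw [pow_zero]; exact D.hKP.map_one
    | succ j ih =>
      have hv := Groth.L16.Existence.isFinLocFree_of_isInvertible (Groth.L18.Ample.isInvertible_tensorPow D.hO j)
      rw [pow_succ, ← ih, D.hKP.map_mul _ _ hv (Groth.L18.KRRAmple.isFinLocFree_of_rank D.hPB.invertible)]
      rfl
  have htw : ∀ d : ℤ, φP (_root_.KRR.cl P (tw O1 L d)) = ((U ^ d : KPˣ) : KP) := by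
    rintro (k | k)
    · rw [Int.ofNat_eq_natCast, zpow_natCast, Units.val_pow_eq_pow_val]
      exact hO k
    · rw [tw_negSucc, cl_tw_neg D A, zpow_negSucc, ← inv_pow, Units.val_pow_eq_pow_val]
      rfl
  let t : ℤ → KS := fun d => gF ((U ^ d : KPˣ) : KP)
  let c : ℕ → KS := fun j => (-1 : KS) ^ j * LambdaOps.lam j (φS (_root_.KRR.cl S E))
  have ht : ∀ M : ℤ, ∑ j ∈ Finset.range (r + 2), c j * t (M - j) = 0 := fun M => by
    have hrel := congrArg (fun z => gF (z * ((U ^ (M - (r + 1 : ℕ)) : KPˣ) : KP)))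
      (taut_relation D.hPB D.hE D.hKS D.hKP D.hg)
    simp only [Finset.sum_mul, zero_mul, map_zero, map_sum] at hrel
    refine (Finset.sum_congr rfl fun j hj => ?_).trans hrel
    have hj' := Finset.mem_range.1 hj
    have hU : ℓ ^ (r + 1 - j) * ((U ^ (M - (r + 1 : ℕ)) : KPˣ) : KP) = ((U ^ (M - j) : KPˣ) : KP) := by
      rw [show ℓ ^ (r + 1 - j) = ((U ^ ((r + 1 - j : ℕ) : ℤ) : KPˣ) : KP) by
        rw [zpow_natCast, Units.val_pow_eq_pow_val], ← Units.val_mul, ← zpow_add]
      congr 2
      omega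
    rw [mul_assoc _ (ℓ ^ (r + 1 - j)), hU,
      show (-1 : KP) ^ j * g (LambdaOps.lam j (φS (_root_.KRR.cl S E))) = g (c j) by
        rw [← hQ, ← hQ, map_mul, map_pow, map_neg, map_one]]
    exact (hlin _ _).symm
  have hs : ∀ M : ℤ, 1 ≤ M → ∑ j ∈ Finset.range (r + 2), c j * D.s (M - j) = 0 := fun M hM => D.s_rec A hM
  have hc0 : c 0 = 1 := by simp [c, LambdaOps.lam_zero]
  have hbase : ∀ j : ℕ, j ≤ r → t j = D.s j := fun j hj => by
    have : ((U ^ ((j : ℕ) : ℤ) : KPˣ) : KP) = D.comb (Pi.single (⟨j, by omega⟩ : Fin (r + 1)) 1) := by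
      rw [D.comb_apply, Finset.sum_eq_single (⟨j, by omega⟩ : Fin (r + 1))]
      · rw [Pi.single_eq_same, Groth.L12.KRR.pull_one D.hKP D.hKS D.hg, one_mul, zpow_natCast,
          Units.val_pow_eq_pow_val]
      · intro i _ hi
        rw [Pi.single_eq_of_ne hi, map_zero, zero_mul]
      · exact fun h => absurd (Finset.mem_univ _) h
    show gF _ = _
    rw [this, hp, Finset.sum_eq_single (⟨j, by omega⟩ : Fin (r + 1))]
    · rw [Pi.single_eq_same, one_mul]
    · intro i _ hi
      rw [Pi.single_eq_of_ne hi, zero_mul]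
    · exact fun h => absurd (Finset.mem_univ _) h
  have hup : ∀ n : ℕ, t n = D.s n := by
    intro n
    induction n using Nat.strong_induction_on with
    | _ n ih =>
      by_cases hn : n ≤ r
      · exact hbase n hn
      have h1 := ht n
      rw [← hs n (by omega), Finset.sum_range_succ' (fun j => c j * t ((n : ℤ) - j)),
        Finset.sum_range_succ' (fun j => c j * D.s ((n : ℤ) - j)), Finset.sum_congr rfl fun j hj => by
          have := Finset.mem_range.1 hj
          rw [show ((n : ℤ) - ((j + 1 : ℕ) : ℤ)) = ((n - (j + 1) : ℕ) : ℤ) by omega, ih _ (by omega),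
            show ((n - (j + 1) : ℕ) : ℤ) = ((n : ℤ) - ((j + 1 : ℕ) : ℤ)) by omega]] at h1
      simpa [hc0] using h1
  have hdown : ∀ (k : ℕ) (d : ℤ), -(r : ℤ) ≤ d → -(k : ℤ) ≤ d → t d = D.s d := by
    intro k
    induction k with
    | zero =>
      intro d _ hd
      obtain ⟨n, rfl⟩ : ∃ n : ℕ, d = n := ⟨d.toNat, by omega⟩
      exact hup n
    | succ k ih =>
      intro d hd hd'
      by_cases hk : -(k : ℤ) ≤ d
      · exact ih d hd hk
      have h1 := ht (d + (r + 1 : ℕ))
      rw [← hs (d + (r + 1 : ℕ)) (by omega),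
        Finset.sum_range_succ (fun j => c j * t (d + (r + 1 : ℕ) - j)),
        Finset.sum_range_succ (fun j => c j * D.s (d + (r + 1 : ℕ) - j)),
        Finset.sum_congr rfl fun j hj => by
          have := Finset.mem_range.1 hj
          rw [ih _ (by omega) (by omega)], add_sub_cancel_right] at h1
      exact (((isUnit_one.neg).pow (r + 1)).mul D.isUnit_lam_top).mul_left_cancel (add_left_cancel h1)
  refine ⟨gF, fun a d hd => ?_⟩
  rw [hlin, htw]
  exact congrArg (a * ·) (hdown d.natAbs d hd (by omega))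

include D A in
theorem pushF_delta_pow_lt [HasInjectiveResolutions P.Modules] {gF : KP →+ KS} (hT : D.TwF gF) {l : ℕ} (hl : l ≤ r) :
    gF ((1 - φP (_root_.KRR.cl P L)) ^ l) = 1 := by
  obtain ⟨Q, hQ⟩ := Groth.L12.KRR.exists_pullHom D.hKP D.hKS D.hg
  set u := φP (_root_.KRR.cl P L)
  have hexp : (1 - u) ^ l = ∑ j ∈ Finset.range (l + 1), (l.choose j : KP) * (-1) ^ j * u ^ j := by
    rw [sub_eq_add_neg, add_comm, add_pow]
    refine Finset.sum_congr rfl fun j _ => ?_
    rw [one_pow, neg_pow]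
    ring
  rw [hexp, map_sum, Finset.sum_congr rfl (g := fun j => if j = 0 then (1 : KS) else 0) fun j hj => ?_,
    Finset.sum_ite_eq', if_pos (Finset.mem_range.2 (Nat.succ_pos l))]
  have := Finset.mem_range.1 hj
  have e : g ((l.choose j : KS) * (-1) ^ j) = (l.choose j : KP) * (-1) ^ j := by
    rw [← hQ, map_mul, map_natCast, map_pow, map_neg, map_one]
  rw [← e, pushF_pow_small D A hT _ (by omega)]
  split_ifs with h0
  · subst h0; simp
  · rfl

end Groth.L12.KBun.Data
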