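import Groth.Agent.L12.KBun.PushF
import Groth.Agent.L12.DualVb
import Groth.Agent.L12.KNil.GammaVanish
import Groth.Agent.L22.Adjunction.NormalDiv
import Groth.Agent.L08.Lambda.Rank
import Groth.Agent.L21.Bundle.Hom

/-!
# The Segre relation on a projective bundle
-/

set_option autoImplicit false
set_option maxHeartbeats 800000
set_option linter.style.haveILetI false
set_option linter.unusedSectionVars false
set_option backward.isDefEq.respectTransparency false
set_option backward.isDefEq.respectTransparency.types false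

universe v u

open CategoryTheory CategoryTheory.Limits AlgebraicGeometry LambdaRing

attribute [local instance] HasDerivedCategory.standard

noncomputable section

namespace Groth.L12.KBun

variable {S P : Scheme.{u}} [IsNoetherian S] [ConnectedSpace S] [ConnectedSpace P] {π : P ⟶ S} {O1 : P.Modules}
  {r : ℕ} {E : S.Modules} {q : (Scheme.Modules.pullback π).obj E ⟶ O1}
  {KS : Type v} [CommRing KS] [LambdaOps KS] {PS : PosStructure KS} {φS : SGA6.Kvb S →+ KS}
  {KP : Type v} [CommRing KP] [LambdaOps KP] {PP : PosStructure KP} {φP : SGA6.Kvb P →+ KP}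

theorem rank_dual {X : Scheme.{u}} {n : ℕ} {M : X.Modules} (hM : FlatMod.IsFinLocFreeOfRank n M) :
    FlatMod.IsFinLocFreeOfRank n (RefHull.dual M) := by
  haveI := Groth.L17.Duality.hasSheafHom M
  obtain ⟨e⟩ := Groth.L12.DualVb.nonempty_dual_iso M
  intro x
  obtain ⟨U, hxU, ⟨i⟩⟩ := Groth.L21.Bundle.isFinLocFreeOfRank_dual hM x
  exact ⟨U, hxU, ⟨((Scheme.Modules.restrictFunctor U.ι).mapIso e).symm ≪≫ i⟩⟩

/-- `Σ γ^{n-k}(ẽ) δ^k = γ^n(w̃)`. -/
theorem sum_gamma_delta {K : Type v} [CommRing K] [LambdaOps K] (P : PosStructure K) {u : K} (hu : P.IsLine u)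
    (w : K) : ∀ n : ℕ, ∑ k ∈ Finset.range (n + 1), gamma (n - k) (w + (u - 1)) * (1 - u) ^ k = gamma n w
  | 0 => by
    rw [Finset.sum_range_one, pow_zero, mul_one, Groth.L08.Lambda.gamma_zero, Groth.L08.Lambda.gamma_zero]
  | n + 1 => by
    rw [Finset.sum_range_succ', Finset.sum_congr rfl (g := fun k =>
      gamma (n - k) (w + (u - 1)) * (1 - u) ^ k * (1 - u)) fun k _ => by
        rw [Nat.add_sub_add_right, pow_succ, mul_assoc],
      ← Finset.sum_mul, sum_gamma_delta P hu w n, pow_zero, mul_one, Nat.sub_zero,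
      Groth.L12.KNil.gamma_sub_line P hu w n]
    ring

/-- The Segre relation for anything with the values of `π_*` on the twists. -/
theorem Data.segre {L : P.Modules} {g : KS →+ KP} (D : Data π q L r PS φS PP φP g) (A : Atlas π O1 r)
    [Coh.IsQCoh E] [Coh.IsQCoh (tautSC q).X₁] [Coh.IsQCoh O1] {gF : KP →+ KS} (hT : D.TwF gF) (i : ℕ) :
    ∑ k ∈ Finset.range (r + 1 + 1), gamma (r + 1 - k) (φS (_root_.KRR.cl S (RefHull.dual E)) - ((r + 1 : ℕ) : KS)) *
      gF ((1 - φP (_root_.KRR.cl P L)) ^ (i + k)) = 0 := by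
  have hPB := D.hPB
  have hE := D.hE
  have hKS := D.hKS
  have hKP := D.hKP
  have hg := D.hg
  have hOm := D.hL
  obtain ⟨e₀⟩ := D.hLO
  let e : CohB1.tensorMod O1 L ≅ Coh.structureModule P := Groth.L00.Tensor.tensorComm _ _ ≪≫ e₀
  obtain ⟨Q, hQ⟩ := Groth.L12.KRR.exists_pullHom hKP hKS hg
  set u := φP (_root_.KRR.cl P L)
  set e' := φS (_root_.KRR.cl S (RefHull.dual E))
  set w' := φP (_root_.KRR.cl P (RefHull.dual (tautSC q).X₁))
  have hu : PP.IsLine u :=
    ⟨(hKP.mem_pos_iff _).2 ⟨1, _, le_rfl, Groth.L18.KRRAmple.isRankOne_of_isInvertible hOm, rfl⟩,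
      by exact_mod_cast hKP.aug_cl 1 _ (Groth.L18.KRRAmple.isRankOne_of_isInvertible hOm)⟩
  have hge : g e' = w' + u := by
    have hd := Groth.L12.DualVb.isFinLocFree_dual D.vbE
    obtain ⟨p⟩ := Groth.L12.DualVb.nonempty_dual_pullback π D.vbE
    obtain ⟨T, hT, ⟨t₁⟩, ⟨t₂⟩, ⟨t₃⟩⟩ := Groth.L12.DualVb.exists_dual_shortExact (shortExact_tautSC hPB)
      D.vbW (Groth.L29.LocFree.pullback π D.vbE) (Groth.L18.KRRAmple.isFinLocFree_of_rank hPB.invertible)
    have v₁ := Groth.L29.LocFree.of_iso t₁.symm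
      (Groth.L12.DualVb.isFinLocFree_dual (Groth.L18.KRRAmple.isFinLocFree_of_rank hPB.invertible))
    have v₃ := Groth.L29.LocFree.of_iso t₃.symm (Groth.L12.DualVb.isFinLocFree_dual D.vbW)
    have v₂ := Groth.L29.LocFree.of_iso (t₂ ≪≫ p).symm (Groth.L29.LocFree.pullback π hd)
    obtain ⟨d⟩ := Groth.L22.Adjunction.nonempty_dual_iso D.hO e
    have h := congrArg φP (Groth.L29.KSub.clSub_shortExact (_root_.KRR.vbP P) hT v₁ v₂ v₃)
    rw [map_add] at h
    rw [hg _ hd, ← congrArg φP (Groth.L12.Kvb.cl_iso (t₂ ≪≫ p) v₂), add_comm w']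
    refine h.trans (congrArg₂ (· + ·) ?_ ?_)
    · exact congrArg φP (Groth.L12.Kvb.cl_iso (t₁ ≪≫ d) v₁)
    · exact congrArg φP (Groth.L12.Kvb.cl_iso t₃ v₃)
  have hrel : ∑ k ∈ Finset.range (r + 1 + 1), g (gamma (r + 1 - k) (e' - ((r + 1 : ℕ) : KS))) * (1 - u) ^ k = 0 := by
    have hz : gamma (r + 1) (w' - (r : KP)) = 0 :=
      Groth.L08.Lambda.gamma_rank_eq_zero
        (fun k hk => Groth.L22.Lambda.lam_eq_zero_of_isLine PP (Groth.L22.Lambda.isLine_one PP) hk)
        (fun k hk => by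
          have hW := rank_dual (rank_taut hPB hE)
          rcases Nat.eq_zero_or_pos r with rfl | hr
          · have h00 : _root_.KRR.cl P (RefHull.dual (tautSC q).X₁) = 0 :=
              Groth.L29.KSub.clSub_zero (_root_.KRR.vbP P) (Groth.L12.Kvb.isZero_of_rank_zero hW)
              (Groth.L18.KRRAmple.isFinLocFree_of_rank hW)
            obtain ⟨k, rfl⟩ : ∃ j, k = j + 1 := ⟨k - 1, by omega⟩
            simp only [w', h00, map_zero]
            exact Groth.L22.Lambda.lam_succ_zero k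
          · exact PP.lam_eq_zero _ ((hKP.mem_pos_iff _).2 ⟨r, _, hr, hW, rfl⟩) _
              (by rw [hKP.aug_cl r _ hW]; exact_mod_cast hk))
        (Nat.lt_succ_self r)
    rw [← hz, ← sum_gamma_delta PP hu (w' - (r : KP)) (r + 1)]
    refine Finset.sum_congr rfl fun k _ => ?_
    rw [Groth.L12.KRR.pull_gamma hKP hKS hg, ← hQ (e' - _), map_sub, map_natCast, hQ, hge]
    congr 2
    push_cast
    ring
  have h := congrArg (fun x => gF (x * (1 - u) ^ i)) hrel
  simp only [zero_mul, map_zero, Finset.sum_mul, map_sum] at h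
  refine (Finset.sum_congr rfl fun k _ => ?_).trans h
  rw [mul_assoc, ← pow_add, add_comm k i, Data.pushF_mul D A hT]


/-- The Segre relation `Σ_k γ^{r-k}([E^∨] - r) π_*(δ^{i+k}) = 0`. -/
theorem pushF_segre [HasInjectiveResolutions P.Modules] (hPB : _root_.KRR.IsProjBundle π E O1 q)
    (hE : FlatMod.IsFinLocFreeOfRank r E) (hKS : _root_.KRR.IsModel S KS PS φS)
    (hKP : _root_.KRR.IsModel P KP PP φP) {gF : KP →+ KS}
    (hF : KDet.IsPushF π (Coh.structureModule P) φP φS gF) {Om : P.Modules} (hOm : PicF.IsInvertible Om)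
    (hOOm : ClSub.IsInverseOf O1 Om) (i : ℕ) :
    ∑ k ∈ Finset.range (r + 1), gamma (r - k) (φS (_root_.KRR.cl S (RefHull.dual E)) - (r : KS)) *
      gF ((1 - φP (_root_.KRR.cl P Om)) ^ (i + k)) = 0 := by
  obtain ⟨r, rfl⟩ : ∃ k, r = k + 1 := ⟨r - 1, by have := pos_of_projBundle hPB hE hKP; omega⟩
  obtain ⟨g, hg⟩ := Groth.L12.KRR.exists_isPull π (φX := φP) hKS.bijective
  obtain ⟨A⟩ := exists_atlas hPB hE
  obtain ⟨⟨e⟩⟩ := (show Nonempty (Nonempty (CohB1.tensorMod O1 Om ≅ Coh.structureModule P)) from ⟨hOOm⟩)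
  have D : Data π q Om r PS φS PP φP g := ⟨hPB, hE, hKS, hKP, hg, hOm, ⟨Groth.L00.Tensor.tensorComm _ _ ≪≫ e⟩⟩
  haveI := Groth.L29.DC.PCQCoh.isQCoh_of_isFinLocFree D.vbE
  haveI := Groth.L29.DC.PCQCoh.isQCoh_of_isFinLocFree D.vbW
  haveI := Groth.L29.DC.PCQCoh.isQCoh_of_isFinLocFree (Groth.L18.KRRAmple.isFinLocFree_of_rank hPB.invertible)
  exact D.segre A (Data.twF_of_isPushF D A hF) i

end Groth.L12.KBun
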