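import Groth.Agent.L12.KRR.Gen
import Groth.Agent.L12.KRes.PushVan
import Groth.Agent.L16.ProjSpace.BundleTwist
import Groth.Agent.L18.Grass.GrassGeom
import Groth.Agent.L12.FlatZero.Glob
import Groth.Agent.L22.Reg.PullVan
import Groth.Agent.L26.Pic0.Edge

/-!
# Charts of a projective bundle and vanishing of higher direct images
-/

set_option autoImplicit false
set_option linter.style.haveILetI false
set_option linter.unusedSectionVars false
set_option backward.isDefEq.respectTransparency false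
set_option backward.isDefEq.respectTransparency.types false

universe u

open CategoryTheory CategoryTheory.Limits AlgebraicGeometry TopologicalSpace Opposite

attribute [local instance] HasDerivedCategory.standard

noncomputable section

namespace Groth.L12.KBun

open Groth.L22.Reg (VPush tw' Regular)
open Groth.L17.BC.Classes (isPullback_fV)

variable {S P : Scheme.{u}}

/-- Charts of `P` over `S` by projective spaces over an affine cover, compatible with `O(1)`. -/
structure Atlas (π : P ⟶ S) (O1 : P.Modules) (r : ℕ) where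
  /-- The affine open at a point. -/
  V : S → S.Opens
  affine : ∀ y, IsAffineOpen (V y)
  mem : ∀ y, y ∈ V y
  /-- The chart. -/
  h : ∀ y, CohB1.ProjSpace r Γ(S, V y) ⟶ P
  imm : ∀ y, IsOpenImmersion (h y)
  range : ∀ y, (h y).opensRange = π ⁻¹ᵁ V y
  comp : ∀ y, h y ≫ π = CohB1.ProjSpace.toSpec r Γ(S, V y) ≫ (affine y).fromSpec
  /-- The chart carries `O(1)` to `O(1)`. -/
  iso : ∀ y, (Scheme.Modules.pullback (h y)).obj O1 ≅ Twist.twistProjSpace r Γ(S, V y) 1

theorem exists_atlas {π : P ⟶ S} {E : S.Modules} {O1 : P.Modules} {q : (Scheme.Modules.pullback π).obj E ⟶ O1}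
    (hPB : KRR.IsProjBundle π E O1 q) {r : ℕ} (hE : FlatMod.IsFinLocFreeOfRank (r + 1) E) :
    Nonempty (Atlas π O1 r) := by
  choose U hxU b hb using fun y : S => Groth.L18.GrassGeom.exists_freeBasis hE y
  choose h hi hr hc he using fun y : S => Groth.L16.ProjSpace.exists_bundle_triv hPB (hb y) (U y).2
  exact ⟨⟨fun y => (U y).1, fun y => (U y).2, hxU, h, hi, hr, hc, fun y => (he y).some⟩⟩

variable {π : P ⟶ S} {O1 : P.Modules} {r : ℕ}

attribute [instance] Atlas.imm

theorem Atlas.isPullback (A : Atlas π O1 r) (y : S) :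
    IsPullback (A.h y) (CohB1.ProjSpace.toSpec r Γ(S, A.V y)) π (A.affine y).fromSpec := by
  haveI : IsOpenImmersion (A.affine y).fromSpec := inferInstance
  refine (IsOpenImmersion.isPullback (CohB1.ProjSpace.toSpec r Γ(S, A.V y)) (A.h y) (A.affine y).fromSpec π
    (A.comp y) ?_).flip
  rw [A.range y, IsAffineOpen.opensRange_fromSpec]

theorem Atlas.isProper (A : Atlas π O1 r) : IsProper π := by
  refine IsZariskiLocalAtTarget.of_iSup_eq_top (P := @IsProper) A.V
    (top_le_iff.1 fun y _ => Opens.mem_iSup.2 ⟨y, A.mem y⟩) fun y => ?_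
  let ε : CohB1.ProjSpace r Γ(S, A.V y) ≅ (π ⁻¹ᵁ A.V y).toScheme :=
    IsOpenImmersion.isoOfRangeEq (A.h y) (π ⁻¹ᵁ A.V y).ι (by rw [Scheme.Opens.range_ι, ← A.range y]; rfl)
  have e : π ∣_ A.V y = ε.inv ≫ CohB1.ProjSpace.toSpec r Γ(S, A.V y) ≫ (A.affine y).isoSpec.inv := by
    rw [← cancel_mono (A.V y).ι, ← cancel_epi ε.hom]
    simp only [Category.assoc, Iso.hom_inv_id_assoc, morphismRestrict_ι]
    rw [IsOpenImmersion.isoOfRangeEq_hom_fac_assoc]
    exact A.comp y
  rw [e]
  infer_instance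

theorem Atlas.flat (A : Atlas π O1 r) : Flat π := by
  refine IsZariskiLocalAtTarget.of_iSup_eq_top (P := @Flat) A.V
    (top_le_iff.1 fun y _ => Opens.mem_iSup.2 ⟨y, A.mem y⟩) fun y => ?_
  let ε : CohB1.ProjSpace r Γ(S, A.V y) ≅ (π ⁻¹ᵁ A.V y).toScheme :=
    IsOpenImmersion.isoOfRangeEq (A.h y) (π ⁻¹ᵁ A.V y).ι (by rw [Scheme.Opens.range_ι, ← A.range y]; rfl)
  have e : π ∣_ A.V y = ε.inv ≫ CohB1.ProjSpace.toSpec r Γ(S, A.V y) ≫ (A.affine y).isoSpec.inv := by
    rw [← cancel_mono (A.V y).ι, ← cancel_epi ε.hom]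
    simp only [Category.assoc, Iso.hom_inv_id_assoc, morphismRestrict_ι]
    rw [IsOpenImmersion.isoOfRangeEq_hom_fac_assoc]
    exact A.comp y
  rw [e]
  infer_instance

theorem Atlas.isIso_app (A : Atlas π O1 r) (U : S.Opens) : IsIso (π.app U) := by
  haveI := A.isProper
  refine Groth.L12.FlatZero.isIso_of_cover π (V := ⊤) (fun y _ => ⟨A.V y, A.affine y, A.mem y, le_top, ?_⟩) le_top
  let e := (isPullback_fV π (A.affine y)).isoIsPullback _ _ (A.isPullback y)
  have he : e.hom ≫ CohB1.ProjSpace.toSpec r Γ(S, A.V y) = Groth.L17.BC.fV π (A.affine y) :=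
    IsPullback.isoIsPullback_hom_snd _ _ _ _
  haveI := Groth.L16.ProjSpace.isIso_toSpec_appTop r Γ(S, A.V y)
  haveI : IsIso (Groth.L17.BC.fV π (A.affine y)).appTop := by
    rw [← he, Scheme.Hom.comp_appTop]
    infer_instance
  have hb : Function.Bijective (Coh.toGlobal (A := Γ(S, A.V y)) (Groth.L17.BC.fV π (A.affine y))) := by
    haveI : IsIso ((Scheme.ΓSpecIso Γ(S, A.V y)).inv ≫ (Groth.L17.BC.fV π (A.affine y)).appTop) :=
      inferInstance
    exact ConcreteCategory.bijective_of_isIso _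
  have hres : ∀ a, Coh.toGlobal (A := Γ(S, A.V y)) (Groth.L17.BC.fV π (A.affine y)) a =
      P.presheaf.map (eqToHom (Groth.L12.FlatZero.image_top_eq π (A.V y))).op (π.app (A.V y) a) :=
    Groth.L12.GenusZero.toGlobal_fV π (A.affine y)
  refine (Function.Bijective.of_comp_iff'
    (Groth.L12.FlatZero.bijective_res (Groth.L12.FlatZero.image_top_eq π (A.V y))) _).1 ?_
  have : (Coh.toGlobal (A := Γ(S, A.V y)) (Groth.L17.BC.fV π (A.affine y)) : _ → _) = _ := funext hres
  rw [this] at hb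
  exact hb

theorem Atlas.nonempty_push_structure_iso (A : Atlas π O1 r) :
    Nonempty (Coh.structureModule S ≅ (Scheme.Modules.pushforward π).obj (Coh.structureModule P)) := by
  haveI : IsIso (ClSub.unitToPush π) := by
    rw [Scheme.Modules.Hom.isIso_iff_isIso_app]
    intro U
    haveI := A.isIso_app U
    exact (ConcreteCategory.isIso_iff_bijective _).2 (ConcreteCategory.bijective_of_isIso (π.app U) :)
  exact ⟨asIso (ClSub.unitToPush π)⟩

theorem Atlas.nonempty_HU (A : Atlas π O1 r) (M : P.Modules) (y : S) (q : ℕ) :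
    Nonempty (Groth.L17.HU (X := P.toTopCat) (π ⁻¹ᵁ A.V y) (Coh.toAb M) q ≃+
      Coh.HH (CohB1.ProjSpace r Γ(S, A.V y)) ((Scheme.Modules.pullback (A.h y)).obj M) q) := by
  obtain ⟨e⟩ := Groth.L17.nonempty_hu_image (A.h y) (⊤ : (CohB1.ProjSpace r Γ(S, A.V y)).Opens) (Coh.toAb M) q
  rw [Scheme.Hom.image_top_eq_opensRange, A.range y] at e
  let i := (Scheme.Modules.restrictFunctorIsoPullback (A.h y)).app M
  exact ⟨e.trans ((Groth.L17.hTopEquiv (X := (CohB1.ProjSpace r Γ(S, A.V y)).toTopCat) _ q).symm.trans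
    (Groth.L17.BC.HHequiv i q).toAddEquiv)⟩

theorem isZero_Rpush_of_cover {f : P ⟶ S} [QuasiCompact f] [QuasiSeparated f] {M : P.Modules} [Coh.IsQCoh M]
    {q : ℕ} {ι : Type*} (V : ι → S.Opens) (hV : ∀ i, IsAffineOpen (V i)) (hcov : ∀ y : S, ∃ i, y ∈ V i)
    (h : ∀ i, Subsingleton (Groth.L17.HU (X := P.toTopCat) (f ⁻¹ᵁ V i) (Coh.toAb M) q)) :
    VPush f q M := by
  haveI := Groth.L17.PushQCoh.hasInjectiveResolutions P
  haveI := Groth.L17.PushQCoh.additive_push f
  obtain ⟨e⟩ := Groth.L17.nonempty_toAb_Rpush_iso f M q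
  refine IsZero.of_iso ((Groth.L17.toAbShF S).map_isZero ?_) e.symm
  let N := (Coh.Rpush f q).obj M
  haveI : Coh.IsQCoh N := Groth.L17.PushQCoh.isQCoh_Rpush f M q
  refine Groth.L21.Mod.isZero_of_restrict (fun i => (hV i).fromSpec) (fun z => ?_) _ fun i => ?_
  · obtain ⟨i, hi⟩ := hcov z
    obtain ⟨w, hw⟩ : z ∈ Set.range (hV i).fromSpec := (hV i).range_fromSpec.ge hi
    exact ⟨i, w, hw⟩
  · haveI : Subsingleton Γ(N, V i) := by
      haveI : Subsingleton (CategoryTheory.Abelian.Ext (Groth.L17.CohSections.fsU (f ⁻¹ᵁ V i)) (Coh.toAb M) q) := h i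
      exact (Groth.L17.CohSections.equiv f (hV i) M q).toEquiv.symm.subsingleton
    haveI : Coh.IsQCoh (N.restrict (hV i).fromSpec) := inferInstance
    refine Groth.Agent.Pic0.isZero_of_subsingleton_Γ_spec _ ?_
    show Subsingleton Γ(N, (hV i).fromSpec ''ᵁ ⊤)
    rw [Scheme.Hom.image_top_eq_opensRange, IsAffineOpen.opensRange_fromSpec]
    infer_instance

end Groth.L12.KBun
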