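import Groth.Agent.L12.KBun.Reg
import Groth.Agent.L12.KRR.Pull

/-!
# `K` of a projective bundle is generated by the base and `O(-1)`
-/

set_option autoImplicit false
set_option linter.style.haveILetI false
set_option linter.unusedSectionVars false
set_option backward.isDefEq.respectTransparency false
set_option backward.isDefEq.respectTransparency.types false

universe v u

open CategoryTheory CategoryTheory.Limits AlgebraicGeometry TopologicalSpace Opposite

attribute [local instance] HasDerivedCategory.standard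

noncomputable section

namespace Groth.L12.KBun

open Groth.L22.Reg (VPush tw' Regular O' vpush_left subsingleton_of_exact)
open Groth.L00.Tensor (tensorIso tensorRightF tensorUnitRight tensorAssoc tensorComm)
open Groth.L17 (toAbShF)

variable {S P : Scheme.{u}} {π : P ⟶ S} {O1 : P.Modules} {r : ℕ} (A : Atlas π O1 r)

theorem Atlas.shortExact_res {T : ShortComplex P.Modules} (hT : T.ShortExact) (y : S) :
    (T.map (Scheme.Modules.pullback (A.h y))).ShortExact := by
  haveI : Flat (A.h y) := inferInstance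
  haveI := Groth.L17.CxTools.preservesFiniteLimits_pullback (A.h y)
  haveI := Groth.L17.CxTools.preservesFiniteColimits_pullback (A.h y)
  haveI := Groth.L17.CxTools.additive_pullback (A.h y)
  exact hT.map_of_exact _

theorem cv_left {T : ShortComplex P.Modules} (hT : T.ShortExact) {q : ℕ} {d : ℤ}
    (h₂ : CV A (q + 1) d T.X₂) (h₃ : CV A q d T.X₃) : CV A (q + 1) d T.X₁ := fun y =>
  subsingleton_of_exact
    (Groth.L16.CohLinear.exact_delta_hmap (Groth.L22.Reg.shortExact_tw (A.shortExact_res hT y) d) q)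
    (h₃ y) (h₂ y) (map_zero _)

theorem cv_right {T : ShortComplex P.Modules} (hT : T.ShortExact) {q : ℕ} {d : ℤ}
    (h₂ : CV A q d T.X₂) (h₁ : CV A (q + 1) d T.X₁) : CV A q d T.X₃ := fun y =>
  subsingleton_of_exact
    (Groth.L16.CohLinear.exact_hmap_delta (Groth.L22.Reg.shortExact_tw (A.shortExact_res hT y) d) q)
    (h₂ y) (h₁ y) (map_zero _)

theorem cv_of_isZero {M : P.Modules} (h : IsZero M) (q : ℕ) (d : ℤ) : CV A q d M := fun y => by
  haveI : (Scheme.Modules.pullback (A.h y)).IsLeftAdjoint :=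
    (Scheme.Modules.pullbackPushforwardAdjunction _).isLeftAdjoint
  refine Groth.L03.Euler.subsingleton_HH_of_isZero ?_ q
  exact (tensorRightF (O' r Γ(S, A.V y) d)).map_isZero ((Scheme.Modules.pullback (A.h y)).map_isZero h)

theorem cv_of_lt {M : P.Modules} [Coh.IsQCoh M] {q : ℕ} (hq : r < q) (d : ℤ) : CV A q d M := fun y => by
  haveI := Groth.L16.AffineBC.isQCoh_pullback (A.h y) M
  haveI := Groth.L22.Reg.isQCoh_tw (A.res y M) d
  exact Groth.L16.ProjSpace.subsingleton_HH_of_lt r _ _ q hq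

variable [IsNoetherian S]

theorem cv_pullback {M : S.Modules} (hM : Coh.IsCoh M) {q : ℕ} (hq : 1 ≤ q) {d : ℤ} (hd : -(r : ℤ) ≤ d) :
    CV A q d ((Scheme.Modules.pullback π).obj M) := fun y => by
  haveI : IsNoetherianRing Γ(S, A.V y) := IsLocallyNoetherian.component_noetherian ⟨A.V y, A.affine y⟩
  have hM' : Coh.IsCoh ((Scheme.Modules.pullback (A.affine y).fromSpec).obj M) :=
    Groth.L16.AffineBC.isCoh_pullback _ hM
  refine (Groth.L22.Reg.subsingleton_congr_iso ((tensorRightF (O' r Γ(S, A.V y) d)).mapIso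
    ((Scheme.Modules.pullbackComp _ _).app M ≪≫ (Scheme.Modules.pullbackCongr (A.comp y)).app M ≪≫
      ((Scheme.Modules.pullbackComp _ _).app M).symm)) q).2 ?_
  exact Groth.L22.Reg.subsingleton_pullback_base r Γ(S, A.V y) q hq _ hM' d hd

include A in
/-- The projection formula with the structure sheaf. -/
theorem nonempty_push_pull {M : S.Modules} (hM : FlatMod.IsFinLocFree M) :
    Nonempty ((Scheme.Modules.pushforward π).obj ((Scheme.Modules.pullback π).obj M) ≅ M) := by
  haveI := A.isProper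
  haveI := Groth.L17.PushQCoh.hasInjectiveResolutions P
  haveI := Groth.L17.PushQCoh.additive_push π
  obtain ⟨p⟩ := Groth.L17.ProjFormula.nonempty_Rpush_iso π M (Coh.structureModule P) hM 0
  obtain ⟨w⟩ := A.nonempty_push_structure_iso
  let z := (Scheme.Modules.pushforward π).rightDerivedZeroIsoSelf
  exact ⟨(Scheme.Modules.pushforward π).mapIso (tensorUnitRight _).symm ≪≫ (z.app _).symm ≪≫ p.symm ≪≫
    tensorIso (Iso.refl M) (z.app _ ≪≫ w.symm) ≪≫ tensorUnitRight M⟩

variable (π) in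
/-- The counit sequence. -/
def cSC (F : P.Modules) : ShortComplex P.Modules :=
  ShortComplex.mk (kernel.ι ((Scheme.Modules.pullbackPushforwardAdjunction π).counit.app F))
    ((Scheme.Modules.pullbackPushforwardAdjunction π).counit.app F) (kernel.condition _)

/-- Regular bundles with the vanishing carried along the resolution. -/
def Van (j : ℕ) (F : P.Modules) : Prop :=
  FlatMod.IsFinLocFree F ∧ Reg A F ∧ ∀ q a : ℕ, 1 ≤ a → a ≤ j → a ≤ q + 1 → CV A q (-(a : ℤ)) F

include A in
theorem vb_push {F : P.Modules} (hF : FlatMod.IsFinLocFree F) (hreg : Reg A F) :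
    FlatMod.IsFinLocFree ((Scheme.Modules.pushforward π).obj F) := by
  haveI : Coh.IsQCoh F := Groth.L29.DC.PCQCoh.isQCoh_of_isFinLocFree hF
  exact isFinLocFree_push_of_vpush A hF fun q hq => vpush_of_reg A hreg hq

theorem shortExact_cSC {F : P.Modules} (hF : FlatMod.IsFinLocFree F) (hreg : Reg A F) :
    (cSC π F).ShortExact := by
  haveI := A.isProper
  haveI : IsLocallyNoetherian P := LocallyOfFiniteType.isLocallyNoetherian π
  exact { exact := ShortComplex.exact_kernel _, mono_f := inferInstanceAs (Mono (kernel.ι _)),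
          epi_g := epi_counit A (Groth.L16.NegPow.isCoh_of_isFinLocFree hF) hreg }

theorem vb_X₁ {F : P.Modules} (hF : FlatMod.IsFinLocFree F) (hreg : Reg A F) :
    FlatMod.IsFinLocFree (cSC π F).X₁ := by
  haveI := (shortExact_cSC A hF hreg).epi_g
  exact Groth.L29.DC.isFinLocFree_kernel_of_epi (cSC π F).g (Groth.L29.LocFree.pullback _ (vb_push A hF hreg)) hF

theorem cv_X₁ {F : P.Modules} (hF : FlatMod.IsFinLocFree F) (hreg : Reg A F) (q : ℕ) :
    CV A (q + 1) (-(q : ℤ)) (cSC π F).X₁ := by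
  haveI := A.isProper
  haveI : Coh.IsQCoh F := Groth.L29.DC.PCQCoh.isQCoh_of_isFinLocFree hF
  have hT := vb_push A hF hreg
  have hTc := Groth.L16.NegPow.isCoh_of_isFinLocFree hT
  haveI := hTc.1
  haveI : Coh.IsQCoh (cSC π F).X₁ := Groth.L29.DC.PCQCoh.isQCoh_of_isFinLocFree (vb_X₁ A hF hreg)
  haveI hq2 := Groth.L16.AffineBC.isQCoh_pullback π ((Scheme.Modules.pushforward π).obj F)
  haveI : Coh.IsQCoh (cSC π F).X₂ := hq2
  rcases Nat.lt_or_ge r (q + 1) with h | h
  · exact cv_of_lt A h _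
  rcases Nat.eq_zero_or_pos q with rfl | hq
  · rw [Nat.cast_zero, neg_zero]
    refine (cv_zero_iff A 1).1 (vpush_left π (shortExact_cSC A hF hreg) 0
      ((cv_zero_iff A 1).2 (cv_pullback A hTc le_rfl (by omega))) ?_)
    haveI : PreservesFiniteLimits (Coh.pushAb π) :=
      inferInstanceAs (PreservesFiniteLimits (TopCat.Sheaf.pushforward AddCommGrpCat.{u} π.base))
    haveI hepi : Epi ((Scheme.Modules.pushforward π).map (cSC π F).g) :=
      (IsSplitEpi.mk' ⟨(Scheme.Modules.pullbackPushforwardAdjunction π).unit.app _,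
        (Scheme.Modules.pullbackPushforwardAdjunction π).right_triangle_components F⟩).epi
    haveI : Epi ((Coh.pushAb π).map ((toAbShF _).map (cSC π F).g)) :=
      inferInstanceAs (Epi ((toAbShF S).map ((Scheme.Modules.pushforward π).map (cSC π F).g)))
    show Epi ((Coh.RpushAb π 0).map ((toAbShF _).map (cSC π F).g))
    have hnat := (Coh.pushAb π).rightDerivedZeroIsoSelf.hom.naturality ((toAbShF _).map (cSC π F).g)
    rw [← Iso.app_hom, ← Iso.app_hom, ← Iso.eq_comp_inv, Category.assoc] at hnat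
    exact hnat ▸ inferInstanceAs (Epi (((Coh.pushAb π).rightDerivedZeroIsoSelf.app _).hom ≫
      (Coh.pushAb π).map ((toAbShF _).map (cSC π F).g) ≫
      ((Coh.pushAb π).rightDerivedZeroIsoSelf.app _).inv))
  · exact cv_left A (shortExact_cSC A hF hreg) (cv_pullback A hTc (by omega) (by omega))
      (cv_of_reg A hreg hq le_rfl)

theorem reg_next {F : P.Modules} (hF : FlatMod.IsFinLocFree F) (hreg : Reg A F) :
    Reg A (CohB1.tensorMod (cSC π F).X₁ O1) := fun y q hq => by
  obtain ⟨q, rfl⟩ : ∃ q', q = q' + 1 := ⟨q - 1, by omega⟩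
  exact (cv_O1 A (show (1 : ℤ) + (0 - ((q + 1 : ℕ) : ℤ)) = -(q : ℤ) by omega)).2 (cv_X₁ A hF hreg q) y

theorem isZero_push_X₁ [ConnectedSpace S] {F : P.Modules} (hF : FlatMod.IsFinLocFree F) (hreg : Reg A F) :
    IsZero ((Scheme.Modules.pushforward π).obj (cSC π F).X₁) := by
  haveI := A.isProper
  haveI := Groth.L17.PushQCoh.additive_push π
  haveI : Coh.IsQCoh (cSC π F).X₁ := Groth.L29.DC.PCQCoh.isQCoh_of_isFinLocFree (vb_X₁ A hF hreg)
  have hc := cv_X₁ A hF hreg 0
  rw [Nat.cast_zero, neg_zero] at hc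
  have hS := Groth.L12.KReg.shortExact_push π (shortExact_cSC A hF hreg) ((cv_zero_iff A 1).2 hc)
  have hT := vb_push A hF hreg
  obtain ⟨w⟩ := nonempty_push_pull A hT
  have h₂ : FlatMod.IsFinLocFree ((Scheme.Modules.pushforward π).obj (cSC π F).X₂) :=
    Groth.L29.LocFree.of_iso w.symm hT
  have h₁ : FlatMod.IsFinLocFree ((Scheme.Modules.pushforward π).obj (cSC π F).X₁) := by
    haveI : Epi ((cSC π F).map (Scheme.Modules.pushforward π)).g := hS.epi_g
    exact Groth.L29.LocFree.of_iso ((kernelIsKernel _).conePointUniqueUpToIso hS.fIsKernel)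
      (Groth.L29.DC.isFinLocFree_kernel_of_epi ((cSC π F).map (Scheme.Modules.pushforward π)).g h₂ hT)
  obtain ⟨k, hk⟩ := Groth.L18.KRRAmple.exists_rank h₁
  obtain ⟨t, ht⟩ := Groth.L18.KRRAmple.exists_rank hT
  obtain ⟨m, hm⟩ := Groth.L18.KRRAmple.exists_rank h₂
  have e1 := Groth.L12.Kvb.rk_shortExact _ hS h₁ h₂ hT
  have e2 : Groth.L12.Kvb.rkHom (Groth.L12.Kvb.toKR S (KRR.cl S
      ((Scheme.Modules.pushforward π).obj (cSC π F).X₂))) = (t : ℤ) := by
    rw [show KRR.cl S ((Scheme.Modules.pushforward π).obj (cSC π F).X₂) = _ from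
      Groth.L12.PushFree.cl_iso w h₂]
    exact Groth.L12.Kvb.rkHom_cl ht
  rw [Groth.L12.Kvb.rkHom_cl hm] at e2
  have e3 : (m : ℤ) = k + t := by
    rw [← Groth.L12.Kvb.rk_eq hm, ← Groth.L12.Kvb.rk_eq hk, ← Groth.L12.Kvb.rk_eq ht]
    exact e1
  obtain rfl : k = 0 := by omega
  exact Groth.L12.Kvb.isZero_of_rank_zero hk

theorem Van.next [ConnectedSpace S] (hinv : PicF.IsInvertible O1) {j : ℕ} (hj : j ≤ r) {F : P.Modules}
    (h : Van A j F) : Van A (j + 1) (CohB1.tensorMod (cSC π F).X₁ O1) := by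
  refine ⟨Groth.L29.DC.isFinLocFree_tensor (vb_X₁ A h.1 h.2.1)
    (Groth.L16.Existence.isFinLocFree_of_isInvertible hinv), reg_next A h.1 h.2.1, fun q a ha haj haq => ?_⟩
  obtain ⟨a, rfl⟩ : ∃ a', a = a' + 1 := ⟨a - 1, by omega⟩
  refine (cv_O1 A (show (1 : ℤ) + -((a + 1 : ℕ) : ℤ) = -(a : ℤ) by omega)).2 ?_
  haveI : Coh.IsQCoh (cSC π F).X₁ := Groth.L29.DC.PCQCoh.isQCoh_of_isFinLocFree (vb_X₁ A h.1 h.2.1)
  rcases Nat.eq_zero_or_pos q with rfl | hq
  · obtain rfl : a = 0 := by omega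
    rw [Nat.cast_zero, neg_zero]
    exact (cv_zero_iff A 0).1 ((Groth.L12.KRR.vpush_zero_iff π).2 (isZero_push_X₁ A h.1 h.2.1))
  obtain ⟨q, rfl⟩ : ∃ q', q = q' + 1 := ⟨q - 1, by omega⟩
  rcases Nat.eq_zero_or_pos a with rfl | ha'
  · exact (cv_O1 A (show (1 : ℤ) + -1 = -((0 : ℕ) : ℤ) by norm_num)).1
      (cv_of_reg A (reg_next A h.1 h.2.1) (by omega) (by omega))
  · exact cv_left A (shortExact_cSC A h.1 h.2.1)
      (cv_pullback A (Groth.L16.NegPow.isCoh_of_isFinLocFree (vb_push A h.1 h.2.1)) (by omega) (by omega))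
      (h.2.2 q a ha' (by omega) (by omega))

theorem isZero_of_van (hinv : PicF.IsInvertible O1) {L : P.Modules} (hL : PicF.IsInvertible L)
    (hLO : ClSub.IsInverseOf L O1) {F : P.Modules} (h : Van A (r + 1) F) : IsZero F := by
  haveI := A.isProper
  haveI : IsLocallyNoetherian P := LocallyOfFiniteType.isLocallyNoetherian π
  let G := CohB1.tensorMod F L
  have hG : FlatMod.IsFinLocFree G :=
    Groth.L29.DC.isFinLocFree_tensor h.1 (Groth.L16.Existence.isFinLocFree_of_isInvertible hL)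
  haveI : Coh.IsQCoh G := Groth.L29.DC.PCQCoh.isQCoh_of_isFinLocFree hG
  haveI : Coh.IsQCoh F := Groth.L29.DC.PCQCoh.isQCoh_of_isFinLocFree h.1
  have hreg : Reg A G := fun y q hq =>
    (cv_inv A hLO (show (-1 : ℤ) + (0 - (q : ℤ)) = -((q + 1 : ℕ) : ℤ) by omega)).2 (by
      rcases Nat.lt_or_ge r q with hrq | hrq
      · exact cv_of_lt A hrq _
      · exact h.2.2 q (q + 1) (by omega) (by omega) le_rfl) y
  have hp : IsZero ((Scheme.Modules.pushforward π).obj G) := (Groth.L12.KRR.vpush_zero_iff π).1 <|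
    (cv_zero_iff A 0).2 <|
      (cv_inv A hLO (show (-1 : ℤ) + 0 = -((1 : ℕ) : ℤ) by norm_num)).2 (h.2.2 0 1 le_rfl (by omega) (by omega))
  haveI := epi_counit A (Groth.L16.NegPow.isCoh_of_isFinLocFree hG) hreg
  haveI : (Scheme.Modules.pullback π).IsLeftAdjoint :=
    (Scheme.Modules.pullbackPushforwardAdjunction _).isLeftAdjoint
  have hz : IsZero G := IsZero.of_epi ((Scheme.Modules.pullbackPushforwardAdjunction π).counit.app G)
    ((Scheme.Modules.pullback π).map_isZero hp)
  obtain ⟨u⟩ := hLO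
  exact ((tensorRightF O1).map_isZero hz).of_iso
    (tensorAssoc F L O1 ≪≫ tensorIso (Iso.refl F) u ≪≫ tensorUnitRight F).symm

section Model

variable {KP : Type v} [CommRing KP] [LambdaRing.LambdaOps KP] {PP : LambdaRing.PosStructure KP}
  {φP : SGA6.Kvb P →+ KP} (hKP : _root_.KRR.IsModel P KP PP φP)
  {KS : Type v} [CommRing KS] {φS : SGA6.Kvb S →+ KS} {g : KS →+ KP}
  (hg : _root_.KRR.IsPull π φS φP g)

include hKP in
theorem cl_inv_mul {L : P.Modules} (hinv : PicF.IsInvertible O1) (hL : PicF.IsInvertible L)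
    (hLO : ClSub.IsInverseOf L O1) : φP (KRR.cl P L) * φP (KRR.cl P O1) = 1 := by
  have h1 := Groth.L16.Existence.isFinLocFree_of_isInvertible hL
  have h2 := Groth.L16.Existence.isFinLocFree_of_isInvertible hinv
  obtain ⟨u⟩ := hLO
  rw [hKP.map_mul L O1 h1 h2, ← hKP.map_one]
  exact congrArg φP (Groth.L12.PushFree.cl_iso u (Groth.L29.DC.isFinLocFree_tensor h1 h2))

include A hKP hg in
theorem cl_next (hinv : PicF.IsInvertible O1) {L : P.Modules} (hL : PicF.IsInvertible L)
    (hLO : ClSub.IsInverseOf L O1) {F : P.Modules} (hF : FlatMod.IsFinLocFree F) (hreg : Reg A F) :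
    φP (KRR.cl P F) = g (φS (KRR.cl S ((Scheme.Modules.pushforward π).obj F))) -
      φP (KRR.cl P L) * φP (KRR.cl P (CohB1.tensorMod (cSC π F).X₁ O1)) := by
  have hT := vb_push A hF hreg
  have hX := vb_X₁ A hF hreg
  have h := congrArg φP (Groth.L29.KSub.clSub_shortExact (KRR.vbP _) (shortExact_cSC A hF hreg) hX
    (Groth.L29.LocFree.pullback _ hT) hF)
  rw [map_add] at h
  have hm : φP (KRR.cl P (CohB1.tensorMod (cSC π F).X₁ O1)) = φP (KRR.cl P (cSC π F).X₁) * φP (KRR.cl P O1) :=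
    (hKP.map_mul _ _ hX (Groth.L16.Existence.isFinLocFree_of_isInvertible hinv)).symm
  rw [hg _ hT, hm, mul_left_comm, cl_inv_mul hKP hinv hL hLO, mul_one]
  exact eq_sub_of_add_eq ((add_comm _ _).trans h.symm)

include A hKP hg in
theorem mem_closure_of_van [ConnectedSpace S] (hinv : PicF.IsInvertible O1) {L : P.Modules}
    (hL : PicF.IsInvertible L) (hLO : ClSub.IsInverseOf L O1) :
    ∀ (k j : ℕ), j + k = r + 1 → ∀ {F : P.Modules}, Van A j F → φP (KRR.cl P F) ∈ AddSubgroup.closure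
      {z | ∃ (y : KS) (i : ℕ), z = g y * φP (KRR.cl P L) ^ i}
  | 0, j, hj, F, h => by
    obtain rfl : j = r + 1 := by omega
    have hz := isZero_of_van A hinv hL hLO h
    have h0 : KRR.cl P F = 0 := Groth.L29.KSub.clSub_zero (KRR.vbP _) hz (Groth.L29.LocFree.of_isZero hz)
    rw [h0, map_zero]
    exact zero_mem _
  | k + 1, j, hj, F, h => by
    rw [cl_next A hKP hg hinv hL hLO h.1 h.2.1]
    refine sub_mem (AddSubgroup.subset_closure ⟨_, 0, (by rw [pow_zero, mul_one])⟩) ?_
    have ih := mem_closure_of_van hinv hL hLO k (j + 1) (by omega) (h.next A hinv (by omega))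
    set lm := φP (KRR.cl P L)
    refine (AddSubgroup.closure_le (K := (AddSubgroup.closure _).comap (AddMonoidHom.mulLeft lm))).2 ?_ ih
    rintro z ⟨y, i, rfl⟩
    exact AddSubgroup.subset_closure ⟨y, i + 1, show lm * (g y * lm ^ i) = g y * lm ^ (i + 1) by ring⟩

include A hKP hg in
/-- `K(P)` is spanned by the `π^*(y)·[O(-1)]^i`. -/
theorem mem_closure_twists [ConnectedSpace S] (hinv : PicF.IsInvertible O1) {L : P.Modules}
    (hL : PicF.IsInvertible L) (hLO : ClSub.IsInverseOf L O1) (x : KP) : x ∈ AddSubgroup.closure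
    {z | ∃ (y : KS) (i : ℕ), z = g y * φP (KRR.cl P L) ^ i} := by
  haveI := A.isProper
  haveI : IsLocallyNoetherian P := LocallyOfFiniteType.isLocallyNoetherian π
  set M := AddSubgroup.closure {z | ∃ (y : KS) (i : ℕ), z = g y * φP (KRR.cl P L) ^ i}
  have key : ∀ F : P.Modules, FlatMod.IsFinLocFree F → φP (KRR.cl P F) ∈ M := fun F hF => by
    obtain ⟨m, hm⟩ := exists_reg A (Groth.L16.NegPow.isCoh_of_isFinLocFree hF) hinv
    obtain ⟨hp, hpc⟩ := Groth.L12.KRR.cl_tensorPow hKP hinv m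
    have hp' := Groth.L16.Existence.isFinLocFree_of_isInvertible hp
    have h1 : φP (KRR.cl P F) * φP (KRR.cl P O1) ^ m ∈ M := by
      rw [← hpc, hKP.map_mul F _ hF hp']
      exact mem_closure_of_van A hKP hg hinv hL hLO (r + 1) 0 (zero_add _)
        ⟨Groth.L29.DC.isFinLocFree_tensor hF hp', hm, fun q a h1 h2 => absurd h2 (by omega)⟩
    have h2 : M ≤ M.comap (AddMonoidHom.mulLeft (φP (KRR.cl P L) ^ m)) := (AddSubgroup.closure_le _).2 (by
      rintro z ⟨y, i, rfl⟩
      exact AddSubgroup.subset_closure ⟨y, m + i, by simp only [AddMonoidHom.coe_mulLeft, pow_add]; ring⟩)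
    have h3 := h2 h1
    rw [AddSubgroup.mem_comap, AddMonoidHom.coe_mulLeft, mul_left_comm, ← mul_pow,
      cl_inv_mul hKP hinv hL hLO, one_pow, mul_one] at h3
    exact h3
  obtain ⟨E, F, hE, hF, rfl⟩ := Groth.L12.KRR.exists_sub_cl hKP x
  exact sub_mem (key E hE) (key F hF)

end Model

end Groth.L12.KBun
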