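import Groth.Agent.L12.KBun.Wedge
import Groth.Agent.L08.Cube.Inverse

/-!
# Direct images of the twists, and the structure of `K` of a projective bundle
-/

set_option autoImplicit false
set_option maxHeartbeats 800000
set_option linter.style.haveILetI false
set_option linter.unusedSectionVars false
set_option backward.isDefEq.respectTransparency false
set_option backward.isDefEq.respectTransparency.types false

universe v u

open CategoryTheory CategoryTheory.Limits AlgebraicGeometry TopologicalSpace Opposite LambdaRing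

attribute [local instance] HasDerivedCategory.standard

noncomputable section

namespace Groth.L12.KBun

open Groth.L22.Reg (VPush)
open Groth.L12.ExtSh (wedgeMod)
open Groth.L00.Tensor (tensorIso tensorRightF tensorUnitRight tensorUnitLeft tensorAssoc tensorComm)

variable {S P : Scheme.{u}} {π : P ⟶ S} {O1 L : P.Modules} {r : ℕ} (A : Atlas π O1 r)

/-- A bundle without higher direct images. -/
def Good (M : P.Modules) : Prop := FlatMod.IsFinLocFree M ∧ ∀ q : ℕ, 1 ≤ q → CV A q 0 M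

theorem Good.of_iso {M N : P.Modules} (e : M ≅ N) (h : Good A M) : Good A N :=
  ⟨Groth.L29.LocFree.of_iso e h.1, fun q hq => (cv_congr A e q 0).1 (h.2 q hq)⟩

theorem good_tw (hO : PicF.IsInvertible O1) (hL : PicF.IsInvertible L) (hLO : ClSub.IsInverseOf L O1)
    {M : P.Modules} (hM : FlatMod.IsFinLocFree M) {d : ℤ} (h : ∀ q : ℕ, 1 ≤ q → CV A q d M) :
    Good A (CohB1.tensorMod M (tw O1 L d)) :=
  ⟨Groth.L29.DC.isFinLocFree_tensor hM (Groth.L16.Existence.isFinLocFree_of_isInvertible (isInvertible_tw hO hL d)),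
    fun q hq => (cv_tw A hLO (add_zero d)).2 (h q hq)⟩

variable [IsNoetherian S]

include A in
theorem Good.vb_push {M : P.Modules} (h : Good A M) : FlatMod.IsFinLocFree ((Scheme.Modules.pushforward π).obj M) := by
  haveI : Coh.IsQCoh M := Groth.L29.DC.PCQCoh.isQCoh_of_isFinLocFree h.1
  exact isFinLocFree_push_of_vpush A h.1 fun q hq => (cv_zero_iff A q).2 (h.2 q hq)

section Classes

variable {KS : Type v} [CommRing KS] (φS : SGA6.Kvb S →+ KS)

variable (π) in
/-- The class of the direct image. -/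
def pcl (M : P.Modules) : KS := φS (_root_.KRR.cl S ((Scheme.Modules.pushforward π).obj M))

include A in
theorem pcl_iso {M N : P.Modules} (e : M ≅ N) (h : Good A M) : pcl π φS M = pcl π φS N :=
  congrArg φS (Groth.L12.Kvb.cl_iso ((Scheme.Modules.pushforward π).mapIso e) h.vb_push)

include A in
theorem pcl_shortExact {T : ShortComplex P.Modules} (hT : T.ShortExact) (h₁ : Good A T.X₁) (h₂ : Good A T.X₂)
    (h₃ : Good A T.X₃) : pcl π φS T.X₂ = pcl π φS T.X₁ + pcl π φS T.X₃ := by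
  haveI := A.isProper
  haveI := Groth.L17.PushQCoh.additive_push π
  haveI : Coh.IsQCoh T.X₁ := Groth.L29.DC.PCQCoh.isQCoh_of_isFinLocFree h₁.1
  have h := congrArg φS (Groth.L29.KSub.clSub_shortExact (_root_.KRR.vbP S)
    (Groth.L12.KReg.shortExact_push π hT ((cv_zero_iff A 1).2 (h₁.2 1 le_rfl))) h₁.vb_push h₂.vb_push h₃.vb_push)
  rw [map_add] at h
  exact h

variable [LambdaOps KS] {PS : PosStructure KS} (hKS : _root_.KRR.IsModel S KS PS φS)

include A hKS in
theorem pcl_pull_tensor {N : S.Modules} (hN : FlatMod.IsFinLocFree N) {M : P.Modules} (hM : Good A M) :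
    pcl π φS (CohB1.tensorMod ((Scheme.Modules.pullback π).obj N) M) = φS (_root_.KRR.cl S N) * pcl π φS M := by
  haveI := A.isProper
  haveI := Groth.L17.PushQCoh.hasInjectiveResolutions P
  haveI := Groth.L17.PushQCoh.additive_push π
  obtain ⟨p⟩ := Groth.L17.ProjFormula.nonempty_Rpush_iso π N M hN 0
  let z := (Scheme.Modules.pushforward π).rightDerivedZeroIsoSelf
  let e : (Scheme.Modules.pushforward π).obj (CohB1.tensorMod ((Scheme.Modules.pullback π).obj N) M) ≅
      CohB1.tensorMod N ((Scheme.Modules.pushforward π).obj M) :=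
    (z.app _).symm ≪≫ p.symm ≪≫ tensorIso (Iso.refl N) (z.app _)
  have hM' := hM.vb_push
  exact (congrArg φS (Groth.L12.Kvb.cl_iso e.symm (Groth.L29.DC.isFinLocFree_tensor hN hM')).symm).trans
    (hKS.map_mul N _ hN hM').symm

end Classes

/-- The data: a projective bundle with models, its atlas and an inverse of `O(1)`. -/
structure Data (π : P ⟶ S) {E : S.Modules} (q : (Scheme.Modules.pullback π).obj E ⟶ O1) (L : P.Modules) (r : ℕ)
    {KS : Type v} [CommRing KS] [LambdaOps KS] (PS : PosStructure KS) (φS : SGA6.Kvb S →+ KS)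
    {KP : Type v} [CommRing KP] [LambdaOps KP] (PP : PosStructure KP) (φP : SGA6.Kvb P →+ KP) (g : KS →+ KP) :
    Prop where
  hPB : _root_.KRR.IsProjBundle π E O1 q
  hE : FlatMod.IsFinLocFreeOfRank (r + 1) E
  hKS : _root_.KRR.IsModel S KS PS φS
  hKP : _root_.KRR.IsModel P KP PP φP
  hg : _root_.KRR.IsPull π φS φP g
  hL : PicF.IsInvertible L
  hLO : ClSub.IsInverseOf L O1

variable [ConnectedSpace S] [ConnectedSpace P] {E : S.Modules} {q : (Scheme.Modules.pullback π).obj E ⟶ O1}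
  {KS : Type v} [CommRing KS] [LambdaOps KS] {PS : PosStructure KS} {φS : SGA6.Kvb S →+ KS}
  {KP : Type v} [CommRing KP] [LambdaOps KP] {PP : PosStructure KP} {φP : SGA6.Kvb P →+ KP} {g : KS →+ KP}

namespace Data

variable (D : Data π q L r PS φS PP φP g)

include D in
theorem hO : PicF.IsInvertible O1 := Groth.L22.GenRank.isInvertible_of_rank_one D.hPB.invertible

include D in
theorem vbE : FlatMod.IsFinLocFree E := Groth.L18.KRRAmple.isFinLocFree_of_rank D.hE

include D in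
theorem vbW : FlatMod.IsFinLocFree (tautSC q).X₁ := isFinLocFree_taut D.hPB D.hE

variable [Coh.IsQCoh E] [Coh.IsQCoh (tautSC q).X₁] [Coh.IsQCoh O1]

include D in
theorem isZero_wedge_O1 (m : ℕ) (hm : 2 ≤ m) : IsZero (wedgeMod O1 m) := by
  have hf := Groth.L18.KRRAmple.isFinLocFree_of_rank D.hPB.invertible
  refine isZero_of_cl_eq_zero D.hKP (Groth.L12.ExtSh.isFinLocFree_wedgeMod hf m) ?_
  rw [← lam_cl_eq D.hKP hf m]
  exact Groth.L22.Lambda.lam_eq_zero_of_isLine PP (isLine_O1 D.hPB D.hKP) hm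

include D in
theorem isZero_wedge_W : IsZero (wedgeMod (tautSC q).X₁ (r + 1)) := by
  refine isZero_of_cl_eq_zero D.hKP (Groth.L12.ExtSh.isFinLocFree_wedgeMod D.vbW _) ?_
  rw [← lam_cl_eq D.hKP D.vbW]
  exact lam_taut_eq_zero D.hPB D.hE D.hKP

include D in
/-- The wedge sequence of the tautological sequence. -/
theorem exists_wedge (i : ℕ) : ∃ T : ShortComplex P.Modules, T.ShortExact ∧
    Nonempty (T.X₁ ≅ wedgeMod (tautSC q).X₁ (i + 1)) ∧
    Nonempty (T.X₂ ≅ (Scheme.Modules.pullback π).obj (wedgeMod E (i + 1))) ∧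
    Nonempty (T.X₃ ≅ CohB1.tensorMod (wedgeMod (tautSC q).X₁ i) O1) := by
  have hW := D.vbW
  have hO := Groth.L18.KRRAmple.isFinLocFree_of_rank D.hPB.invertible
  have hM : FlatMod.IsFinLocFree (tautSC q).X₂ := Groth.L29.LocFree.pullback π D.vbE
  haveI := Groth.L29.DC.PCQCoh.isQCoh_of_isFinLocFree hM
  haveI : Coh.IsQCoh ((Scheme.Modules.pullback π).obj E) := Groth.L29.DC.PCQCoh.isQCoh_of_isFinLocFree hM
  haveI : Coh.IsQCoh (tautSC q).X₃ := Groth.L29.DC.PCQCoh.isQCoh_of_isFinLocFree hO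
  obtain ⟨T, hT, h₁, ⟨e₂⟩, h₃⟩ := exists_wedge_shortExact (shortExact_tautSC D.hPB) hW hO D.isZero_wedge_O1 i
  obtain ⟨e⟩ := Groth.L12.ExtSh.nonempty_pullback_extPow_iso π D.vbE
    (Groth.L12.ExtSh.isExtPow_wedgeMod E (i + 1))
    (Groth.L12.ExtSh.isExtPow_wedgeMod ((Scheme.Modules.pullback π).obj E) (i + 1))
  exact ⟨T, hT, h₁, ⟨e₂ ≪≫ e.symm⟩, h₃⟩

include D in
theorem vb_wedgeW (i : ℕ) : FlatMod.IsFinLocFree (wedgeMod (tautSC q).X₁ i) := by
  exact Groth.L12.ExtSh.isFinLocFree_wedgeMod D.vbW i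

include D in
theorem vb_wedgeE (i : ℕ) : FlatMod.IsFinLocFree (wedgeMod E i) := by
  exact Groth.L12.ExtSh.isFinLocFree_wedgeMod D.vbE i

include D in
theorem cv_wedge : ∀ (k i : ℕ), i + k = r + 1 → ∀ q' : ℕ, 1 ≤ q' → ∀ d : ℤ, 1 - (i : ℤ) ≤ d →
    CV A q' d (wedgeMod (tautSC q).X₁ i)
  | 0, i, hi, q', _, d, _ => by
    obtain rfl : i = r + 1 := by omega
    exact cv_of_isZero A D.isZero_wedge_W q' d
  | k + 1, i, hi, q', hq, d, hd => by
    obtain ⟨T, hT, ⟨e₁⟩, ⟨e₂⟩, ⟨e₃⟩⟩ := D.exists_wedge i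
    refine (cv_O1 A (show 1 + (d - 1) = d by omega)).1 ((cv_congr A e₃ q' (d - 1)).1 (cv_right A hT ?_ ?_))
    · exact (cv_congr A e₂ q' _).2
        (cv_pullback A (Groth.L16.NegPow.isCoh_of_isFinLocFree (D.vb_wedgeE _)) hq (by omega))
    · exact (cv_congr A e₁ _ _).2 (cv_wedge k (i + 1) (by omega) _ (by omega) _ (by push_cast; omega))

/-- The classes of the direct images of the twists. -/
def s (_D : Data π q L r PS φS PP φP g) (d : ℤ) : KS := pcl π φS (tw O1 L d)

local notation "sd" => Data.s D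

include A D in
theorem good_O {d : ℤ} (hd : -(r : ℤ) ≤ d) : Good A (tw O1 L d) :=
  (good_tw A D.hO D.hL D.hLO Groth.L12.Kvb.isFinLocFree_O fun _ hq => cv_O_pos A hq hd).of_iso A
    (tensorUnitLeft _)

include A D in
theorem good_pull {N : S.Modules} (hN : FlatMod.IsFinLocFree N) {d : ℤ} (hd : -(r : ℤ) ≤ d) :
    Good A (CohB1.tensorMod ((Scheme.Modules.pullback π).obj N) (tw O1 L d)) :=
  good_tw A D.hO D.hL D.hLO (Groth.L29.LocFree.pullback π hN)
    fun _ hq => cv_pullback A (Groth.L16.NegPow.isCoh_of_isFinLocFree hN) hq hd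

include A D in
theorem good_wedge {i : ℕ} (hi : i ≤ r + 1) {d : ℤ} (hd : 1 - (i : ℤ) ≤ d) :
    Good A (CohB1.tensorMod (wedgeMod (tautSC q).X₁ i) (tw O1 L d)) :=
  good_tw A D.hO D.hL D.hLO (D.vb_wedgeW i) fun q' hq => D.cv_wedge A (r + 1 - i) i (by omega) q' hq d hd

include A in
theorem s_zero : sd 0 = 1 := by
  obtain ⟨w⟩ := A.nonempty_push_structure_iso
  exact (congrArg φS (Groth.L12.Kvb.cl_iso w Groth.L12.Kvb.isFinLocFree_O)).symm.trans D.hKS.map_one

include A in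
theorem s_neg {d : ℤ} (h₀ : d < 0) (hd : -(r : ℤ) ≤ d) : sd d = 0 := by
  haveI := A.isProper
  have hg := D.good_O A hd
  haveI : Coh.IsQCoh (tw O1 L d) := Groth.L29.DC.PCQCoh.isQCoh_of_isFinLocFree hg.1
  have hz : IsZero ((Scheme.Modules.pushforward π).obj (tw O1 L d)) :=
    (Groth.L12.KRR.vpush_zero_iff π).1 ((cv_zero_iff A 0).2 ((cv_congr A (tensorUnitLeft _) 0 0).1
      ((cv_tw A D.hLO (add_zero d)).2 (cv_O_neg A h₀ hd))))
  show φS _ = 0
  rw [show _root_.KRR.cl S _ = 0 from Groth.L29.KSub.clSub_zero (_root_.KRR.vbP S) hz hg.vb_push, map_zero]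

include A in
theorem step {i : ℕ} (hi : i ≤ r) {m : ℤ} (hm : 1 ≤ m) :
    pcl π φS (CohB1.tensorMod (wedgeMod (tautSC q).X₁ i) (tw O1 L (m - i))) +
      pcl π φS (CohB1.tensorMod (wedgeMod (tautSC q).X₁ (i + 1)) (tw O1 L (m - (i + 1 : ℕ)))) =
      LambdaOps.lam (i + 1) (φS (_root_.KRR.cl S E)) * sd (m - (i + 1 : ℕ)) := by
  obtain ⟨T, hT, ⟨e₁⟩, ⟨e₂⟩, ⟨e₃⟩⟩ := D.exists_wedge i
  set d := m - ((i + 1 : ℕ) : ℤ) with hd
  obtain ⟨w⟩ := nonempty_O1_tensor_tw (O1 := O1) D.hLO d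
  rw [show d + 1 = m - (i : ℤ) by omega] at w
  let R := tensorRightF (tw O1 L d)
  have h₁ := D.good_wedge A (i := i + 1) (by omega) (show 1 - ((i + 1 : ℕ) : ℤ) ≤ d by omega)
  have h₂ := D.good_pull A (D.vb_wedgeE (i + 1)) (show -(r : ℤ) ≤ d by omega)
  have h₃ := D.good_wedge A (i := i) (by omega) (show 1 - (i : ℤ) ≤ m - i by omega)
  let f₃ : R.obj T.X₃ ≅ CohB1.tensorMod (wedgeMod (tautSC q).X₁ i) (tw O1 L (m - i)) :=
    R.mapIso e₃ ≪≫ tensorAssoc _ _ _ ≪≫ tensorIso (Iso.refl _) w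
  have h₁' := h₁.of_iso A (R.mapIso e₁).symm
  have h₂' := h₂.of_iso A (R.mapIso e₂).symm
  have h₃' := h₃.of_iso A f₃.symm
  have h := pcl_shortExact A φS (Groth.L03.Euler.shortExact_tensor (isInvertible_tw D.hO D.hL d) hT) h₁' h₂' h₃'
  change pcl π φS (R.obj T.X₂) = pcl π φS (R.obj T.X₁) + pcl π φS (R.obj T.X₃) at h
  rw [pcl_iso A φS (N := CohB1.tensorMod (wedgeMod (tautSC q).X₁ (i + 1)) (tw O1 L d)) (R.mapIso e₁) h₁',
    pcl_iso A φS (N := CohB1.tensorMod ((Scheme.Modules.pullback π).obj (wedgeMod E (i + 1))) (tw O1 L d))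
      (R.mapIso e₂) h₂',
    pcl_iso A φS f₃ h₃', pcl_pull_tensor A φS D.hKS (D.vb_wedgeE _) (D.good_O A (by omega)),
    ← lam_cl_eq D.hKS D.vbE] at h
  exact (add_comm _ _).trans h.symm

include A in
theorem partial_sum {m : ℤ} (hm : 1 ≤ m) : ∀ k : ℕ, k ≤ r + 1 →
    ∑ i ∈ Finset.range (k + 1), (-1 : KS) ^ i * LambdaOps.lam i (φS (_root_.KRR.cl S E)) * sd (m - i) =
      (-1) ^ k * pcl π φS (CohB1.tensorMod (wedgeMod (tautSC q).X₁ k) (tw O1 L (m - k)))
  | 0, _ => by
    obtain ⟨e⟩ := Groth.L12.ExtSh.nonempty_iso_of_isExtPow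
      (Groth.L12.ExtSh.isExtPow_wedgeMod (tautSC q).X₁ 0) (Groth.L12.Kvb.isExtPow_zero (tautSC q).X₁)
    rw [Finset.sum_range_one, pow_zero, one_mul, one_mul, LambdaOps.lam_zero, one_mul]
    exact (pcl_iso A φS (tensorIso e (Iso.refl _) ≪≫ tensorUnitLeft _)
      (D.good_wedge A (i := 0) (by omega) (by omega))).symm
  | k + 1, hk => by
    rw [Finset.sum_range_succ, partial_sum hm k (by omega), mul_assoc _ (LambdaOps.lam (k + 1) _),
      ← D.step A (by omega) hm, pow_succ]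
    ring

include A in
/-- The recursion of the classes of the direct images of the twists. -/
theorem s_rec {m : ℤ} (hm : 1 ≤ m) :
    ∑ i ∈ Finset.range (r + 2), (-1 : KS) ^ i * LambdaOps.lam i (φS (_root_.KRR.cl S E)) * sd (m - i) = 0 := by
  have hg := D.good_wedge A (i := r + 1) le_rfl (show 1 - ((r + 1 : ℕ) : ℤ) ≤ m - (r + 1 : ℕ) by omega)
  rw [D.partial_sum A hm (r + 1) le_rfl]
  have hz : IsZero ((Scheme.Modules.pushforward π).obj
      (CohB1.tensorMod (wedgeMod (tautSC q).X₁ (r + 1)) (tw O1 L (m - (r + 1 : ℕ))))) := by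
    haveI : (Scheme.Modules.pushforward π).IsRightAdjoint :=
      (Scheme.Modules.pullbackPushforwardAdjunction π).isRightAdjoint
    exact (Scheme.Modules.pushforward π).map_isZero (isZero_tensor_left D.isZero_wedge_W _)
  rw [pcl, show _root_.KRR.cl S _ = 0 from Groth.L29.KSub.clSub_zero (_root_.KRR.vbP S) hz hg.vb_push, map_zero,
    mul_zero]

end Data

end Groth.L12.KBun
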