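import Groth.Agent.L12.KBun.Basis
import Groth.Agent.L12.KDetLine
import Groth.Agent.L29.DCoh.RHomQCoh
import Groth.Prelude.Def_KDet

/-!
# The push-forward `π_*` on `K` of a projective bundle
-/

set_option autoImplicit false
set_option maxHeartbeats 800000
set_option linter.style.haveILetI false
set_option linter.unusedSectionVars false
set_option backward.isDefEq.respectTransparency false
set_option backward.isDefEq.respectTransparency.types false

universe v u

open CategoryTheory CategoryTheory.Limits AlgebraicGeometry LambdaRing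

attribute [local instance] HasDerivedCategory.standard

noncomputable section

namespace Groth.L12.KBun

open Groth.L12.ExtSh (wedgeMod)

variable {S P : Scheme.{u}} [IsNoetherian S] [ConnectedSpace S] [ConnectedSpace P] {π : P ⟶ S} {O1 L : P.Modules}
  {r : ℕ} {E : S.Modules} {q : (Scheme.Modules.pullback π).obj E ⟶ O1}
  {KS : Type v} [CommRing KS] [LambdaOps KS] {PS : PosStructure KS} {φS : SGA6.Kvb S →+ KS}
  {KP : Type v} [CommRing KP] [LambdaOps KP] {PP : PosStructure KP} {φP : SGA6.Kvb P →+ KP} {g : KS →+ KP}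

namespace Data

variable (D : Data π q L r PS φS PP φP g) (A : Atlas π O1 r) [HasInjectiveResolutions P.Modules] {gF : KP →+ KS}
  (hF : KDet.IsPushF π (Coh.structureModule P) φP φS gF)
variable [Coh.IsQCoh E] [Coh.IsQCoh (tautSC q).X₁] [Coh.IsQCoh O1]

include A hF in
/-- On a bundle without higher direct images `π_*` is the class of the direct image. -/
theorem pushF_good {M : P.Modules} (hM : Good A M) : gF (φP (_root_.KRR.cl P M)) = pcl π φS M := by
  haveI := A.isProper
  haveI := Groth.L29.DC.PCQCoh.isQCoh_of_isFinLocFree hM.1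
  let e : ((DCoh.tensorBi (X := P)).obj (Coh.structureModule P)).obj M ≅ M :=
    (Groth.L29.DC.RHom.unitNatIso (X := P)).app M
  have hv : FlatMod.IsFinLocFree ((Coh.push π).obj (((DCoh.tensorBi (X := P)).obj (Coh.structureModule P)).obj M)) :=
    Groth.L29.LocFree.of_iso ((Coh.push π).mapIso e).symm hM.vb_push
  refine (hF M hM.1 (fun p hp => ?_) hv).trans (congrArg φS (Groth.L12.Kvb.cl_iso ((Coh.push π).mapIso e) hv))
  refine IsZero.of_iso ?_ ((Coh.Rpush π p).mapIso e)
  obtain ⟨i⟩ := Groth.L17.nonempty_toAb_Rpush_iso π M p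
  have hz : IsZero ((Groth.L17.toAbShF S).obj ((Coh.Rpush π p).obj M)) :=
    ((cv_zero_iff A p).2 (hM.2 p hp)).of_iso i
  rw [IsZero.iff_id_eq_zero] at hz ⊢
  apply (Groth.L17.toAbShF S).map_injective
  rw [CategoryTheory.Functor.map_id, Functor.map_zero, hz]

include D A in
theorem cl_tw_neg : ∀ k : ℕ, φP (_root_.KRR.cl P (CohB1.tensorPow L k)) = φP (_root_.KRR.cl P L) ^ k
  | 0 => by rw [pow_zero]; exact D.hKP.map_one
  | k + 1 => by
    have hv := Groth.L16.Existence.isFinLocFree_of_isInvertible (Groth.L18.Ample.isInvertible_tensorPow D.hL k)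
    rw [pow_succ, ← cl_tw_neg k, D.hKP.map_mul _ _ hv (Groth.L16.Existence.isFinLocFree_of_isInvertible D.hL)]
    rfl

include D A hF in
theorem pushF_mul_tw (a : KS) {d : ℤ} (hd : -(r : ℤ) ≤ d) :
    gF (g a * φP (_root_.KRR.cl P (tw O1 L d))) = a * D.s d := by
  obtain ⟨N₁, N₂, h₁, h₂, rfl⟩ := Groth.L12.KRR.exists_sub_cl D.hKS a
  have key : ∀ N : S.Modules, FlatMod.IsFinLocFree N →
      gF (g (φS (_root_.KRR.cl S N)) * φP (_root_.KRR.cl P (tw O1 L d))) = φS (_root_.KRR.cl S N) * D.s d := by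
    intro N hN
    rw [D.hg N hN]
    refine (congrArg gF (D.hKP.map_mul _ _ (Groth.L29.LocFree.pullback π hN) (D.good_O A hd).1)).trans ?_
    exact (pushF_good A hF (D.good_pull A hN hd)).trans (pcl_pull_tensor A φS D.hKS hN (D.good_O A hd))
  rw [map_sub, sub_mul, map_sub, key N₁ h₁, key N₂ h₂, sub_mul]

/-- The values of `π_*` on the classes `π^*a ⊗ O(d)`, `d ≥ -r`. -/
def TwF (D : Data π q L r PS φS PP φP g) (gF : KP →+ KS) : Prop :=
  ∀ (a : KS) {d : ℤ}, -(r : ℤ) ≤ d → gF (g a * φP (_root_.KRR.cl P (tw O1 L d))) = a * D.s d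

include D A hF in
theorem twF_of_isPushF : D.TwF gF := fun a _ hd => pushF_mul_tw D A hF a hd

variable (hT : D.TwF gF)

include D A hT in
theorem pushF_pow_small (a : KS) {j : ℕ} (hj : j ≤ r) :
    gF (g a * φP (_root_.KRR.cl P L) ^ j) = if j = 0 then a else 0 := by
  obtain ⟨Q, hQ⟩ := Groth.L12.KRR.exists_pullHom D.hKP D.hKS D.hg
  rcases j with _ | j
  · have h := hT a (d := ((0 : ℕ) : ℤ)) (by omega)
    rw [tw_natCast, Nat.cast_zero, D.s_zero A, mul_one] at h
    rw [if_pos rfl, pow_zero, ← D.hKP.map_one]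
    exact h
  · have h := hT a (d := Int.negSucc j) (by omega)
    rw [tw_negSucc, cl_tw_neg D A, D.s_neg A (Int.negSucc_lt_zero j) (by omega), mul_zero] at h
    rw [if_neg (Nat.succ_ne_zero j)]
    exact h

include D in
theorem cl_O1_mul_inv : φP (_root_.KRR.cl P O1) * φP (_root_.KRR.cl P L) = 1 := by
  have hO := Groth.L18.KRRAmple.isFinLocFree_of_rank D.hPB.invertible
  have hL := Groth.L16.Existence.isFinLocFree_of_isInvertible D.hL
  obtain ⟨e⟩ := D.hLO
  rw [mul_comm]
  exact ((D.hKP.map_mul _ _ hL hO).trans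
    (congrArg φP (Groth.L12.Kvb.cl_iso e (Groth.L29.DC.isFinLocFree_tensor hL hO)))).trans D.hKP.map_one

include D A hT in
theorem pushF_mul (a : KS) (x : KP) : gF (g a * x) = a * gF x := by
  obtain ⟨Q, hQ⟩ := Groth.L12.KRR.exists_pullHom D.hKP D.hKS D.hg
  obtain ⟨b, rfl⟩ := D.surjective_comb A x
  rw [D.comb_apply, Finset.mul_sum, map_sum, map_sum, Finset.mul_sum]
  refine Finset.sum_congr rfl fun i _ => ?_
  have hp : φP (_root_.KRR.cl P O1) ^ (i : ℕ) = φP (_root_.KRR.cl P (tw O1 L ((i : ℕ) : ℤ))) := by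
    rw [tw_natCast]
    induction (i : ℕ) with
    | zero => rw [pow_zero]; exact D.hKP.map_one.symm
    | succ k ih =>
      have hv := Groth.L16.Existence.isFinLocFree_of_isInvertible (Groth.L18.Ample.isInvertible_tensorPow D.hO k)
      rw [pow_succ, ih, D.hKP.map_mul _ _ hv (Groth.L18.KRRAmple.isFinLocFree_of_rank D.hPB.invertible)]
      rfl
  rw [hp, ← mul_assoc, ← hQ a, ← hQ (b i), ← map_mul, hQ, hQ, hT _ (by omega),
    hT _ (by omega)]
  ring

include D A hT in
/-- `π_*[O(-(r+1))] = (-1)^r [det E]⁻¹`. -/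
theorem pushF_top {c : KS} (hc : LambdaOps.lam (r + 1) (φS (_root_.KRR.cl S E)) * c = 1) :
    gF (φP (_root_.KRR.cl P L) ^ (r + 1)) = (-1) ^ r * c := by
  obtain ⟨Q, hQ⟩ := Groth.L12.KRR.exists_pullHom D.hKP D.hKS D.hg
  set ℓ := φP (_root_.KRR.cl P O1)
  set u := φP (_root_.KRR.cl P L)
  set e := φS (_root_.KRR.cl S E)
  have hrel := congrArg (· * (g c * u ^ (r + 1))) (taut_relation D.hPB D.hE D.hKS D.hKP D.hg)
  simp only [Finset.sum_mul, zero_mul] at hrel
  have hterm : ∀ i ∈ Finset.range (r + 2),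
      (-1 : KP) ^ i * g (LambdaOps.lam i e) * ℓ ^ (r + 1 - i) * (g c * u ^ (r + 1)) =
        g ((-1) ^ i * LambdaOps.lam i e * c) * u ^ i := fun i hi => by
    have hi' : i ≤ r + 1 := Nat.le_of_lt_succ (Finset.mem_range.1 hi)
    have hu : ℓ ^ (r + 1 - i) * u ^ (r + 1) = u ^ i := by
      conv_lhs => rw [show u ^ (r + 1) = u ^ (r + 1 - i) * u ^ i by rw [← pow_add, Nat.sub_add_cancel hi']]
      rw [← mul_assoc, ← mul_pow, cl_O1_mul_inv D, one_pow, one_mul]
    rw [← hQ, ← hQ, ← hQ ((-1) ^ i * _ * c), map_mul, map_mul, map_pow, map_neg, map_one, ← hu]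
    ring
  rw [Finset.sum_congr rfl hterm] at hrel
  have h := congrArg gF hrel
  rw [map_zero, map_sum, Finset.sum_range_succ, Finset.sum_congr rfl (g := fun i => if i = 0 then c else 0)
    (fun i hi => ?_)] at h
  · rw [Finset.sum_ite_eq' (Finset.range (r + 1)), if_pos (Finset.mem_range.2 (Nat.succ_pos r)),
      mul_assoc ((-1 : KS) ^ (r + 1)), hc, mul_one, pushF_mul D A hT] at h
    have h2 : ((-1 : KS) ^ r) * (-1) ^ r = 1 := by rw [← mul_pow, neg_one_mul, neg_neg, one_pow]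
    calc gF (u ^ (r + 1)) = ((-1 : KS) ^ r * (-1) ^ r) * gF (u ^ (r + 1)) := by rw [h2, one_mul]
      _ = (-1) ^ r * c := by
        rw [pow_succ] at h
        linear_combination (-(-1 : KS) ^ r) * h
  · rw [pushF_pow_small D A hT _ (Nat.le_of_lt_succ (Finset.mem_range.1 hi))]
    split_ifs with h0
    · subst h0
      rw [pow_zero, one_mul, LambdaOps.lam_zero, one_mul]
    · rfl

end Data

/-- The rank of a bundle with a nonempty projective bundle is positive. -/
theorem pos_of_projBundle (hPB : _root_.KRR.IsProjBundle π E O1 q) (hE : FlatMod.IsFinLocFreeOfRank r E)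
    (hKP : _root_.KRR.IsModel P KP PP φP) : 0 < r := by
  refine Nat.pos_of_ne_zero fun h => ?_
  subst h
  haveI := hPB.epi
  have hz : IsZero ((Scheme.Modules.pullback π).obj E) :=
    Groth.L12.Kvb.isZero_of_rank_zero (Groth.L18.MapEpi.isFinLocFreeOfRank_pullback π hE)
  have hO : IsZero O1 := IsZero.of_epi q hz
  have h1 := hKP.aug_cl 1 _ hPB.invertible
  rw [show _root_.KRR.cl P O1 = 0 from Groth.L29.KSub.clSub_zero (_root_.KRR.vbP P) hO
    (Groth.L18.KRRAmple.isFinLocFree_of_rank hPB.invertible), map_zero, map_zero] at h1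
  simp at h1

/-- `π_* (1 - [O(-1)])^l` for a projective bundle. -/
theorem pushF_delta_pow [HasInjectiveResolutions P.Modules] (hPB : _root_.KRR.IsProjBundle π E O1 q)
    (hE : FlatMod.IsFinLocFreeOfRank r E) (hKS : _root_.KRR.IsModel S KS PS φS)
    (hKP : _root_.KRR.IsModel P KP PP φP) {gF : KP →+ KS}
    (hF : KDet.IsPushF π (Coh.structureModule P) φP φS gF) {Om : P.Modules} (hOm : PicF.IsInvertible Om)
    (hOOm : ClSub.IsInverseOf O1 Om) {Dm D' : S.Modules} (hD : ExtPow.IsExtPow r E Dm) (hDi : PicF.IsInvertible Dm)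
    (hD'i : PicF.IsInvertible D') (hDD' : ClSub.IsInverseOf Dm D') :
    (∀ l : ℕ, l < r → gF ((1 - φP (_root_.KRR.cl P Om)) ^ l) = 1) ∧
      gF ((1 - φP (_root_.KRR.cl P Om)) ^ r) = 1 - φS (_root_.KRR.cl S D') := by
  obtain ⟨r, rfl⟩ : ∃ k, r = k + 1 := ⟨r - 1, by have := pos_of_projBundle hPB hE hKP; omega⟩
  obtain ⟨g, hg⟩ := Groth.L12.KRR.exists_isPull π (φX := φP) hKS.bijective
  obtain ⟨A⟩ := exists_atlas hPB hE
  obtain ⟨⟨i⟩⟩ := (show Nonempty (Nonempty (CohB1.tensorMod O1 Om ≅ Coh.structureModule P)) from ⟨hOOm⟩)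
  have D : Data π q Om r PS φS PP φP g := ⟨hPB, hE, hKS, hKP, hg, hOm, ⟨Groth.L00.Tensor.tensorComm _ _ ≪≫ i⟩⟩
  haveI := Groth.L29.DC.PCQCoh.isQCoh_of_isFinLocFree D.vbE
  haveI := Groth.L29.DC.PCQCoh.isQCoh_of_isFinLocFree D.vbW
  haveI := Groth.L29.DC.PCQCoh.isQCoh_of_isFinLocFree (Groth.L18.KRRAmple.isFinLocFree_of_rank hPB.invertible)
  obtain ⟨Q, hQ⟩ := Groth.L12.KRR.exists_pullHom hKP hKS hg
  set u := φP (_root_.KRR.cl P Om)
  have hsm : ∀ (z : KS) (j : ℕ), j ≤ r → gF (g z * u ^ j) = if j = 0 then z else 0 :=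
    fun z j hj => Data.pushF_pow_small D A (Data.twF_of_isPushF D A hF) z hj
  have hlow : ∀ l j : ℕ, j ≤ r → gF ((l.choose j : KP) * (-1) ^ j * u ^ j) = if j = 0 then 1 else 0 := by
    intro l j hj
    have e : g ((l.choose j : KS) * (-1) ^ j) = (l.choose j : KP) * (-1) ^ j := by
      rw [← hQ, map_mul, map_natCast, map_pow, map_neg, map_one]
    rw [← e, hsm _ _ hj]
    split_ifs with h0
    · subst h0; simp
    · rfl
  have hexp : ∀ l : ℕ, (1 - u) ^ l = ∑ j ∈ Finset.range (l + 1), (l.choose j : KP) * (-1) ^ j * u ^ j := fun l => by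
    rw [sub_eq_add_neg, add_comm, add_pow]
    refine Finset.sum_congr rfl fun j _ => ?_
    rw [one_pow, neg_pow]
    ring
  refine ⟨fun l hl => ?_, ?_⟩
  · rw [hexp, map_sum, Finset.sum_congr rfl fun j hj =>
      hlow l j (by have := Finset.mem_range.1 hj; omega), Finset.sum_ite_eq', if_pos (Finset.mem_range.2 (Nat.succ_pos l))]
  · have hc : LambdaOps.lam (r + 1) (φS (_root_.KRR.cl S E)) * φS (_root_.KRR.cl S D') = 1 := by
      have hd := Groth.L16.Existence.isFinLocFree_of_isInvertible hDi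
      have hd' := Groth.L16.Existence.isFinLocFree_of_isInvertible hD'i
      obtain ⟨e⟩ := hDD'
      rw [hKS.map_lam (r + 1) E Dm D.vbE hd hD]
      exact ((hKS.map_mul _ _ hd hd').trans
        (congrArg φS (Groth.L12.Kvb.cl_iso e (Groth.L29.DC.isFinLocFree_tensor hd hd')))).trans hKS.map_one
    have htop : gF (((r + 1).choose (r + 1) : KP) * (-1) ^ (r + 1) * u ^ (r + 1)) = -φS (_root_.KRR.cl S D') := by
      have e : g (((-1) ^ (r + 1) : KS)) = (-1 : KP) ^ (r + 1) := by rw [← hQ, map_pow, map_neg, map_one]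
      rw [Nat.choose_self, Nat.cast_one, one_mul, ← e, Data.pushF_mul D A (Data.twF_of_isPushF D A hF), Data.pushF_top D A (Data.twF_of_isPushF D A hF) hc,
        pow_succ, mul_assoc, mul_left_comm ((-1 : KS) ^ r), ← mul_assoc ((-1 : KS) ^ r), ← mul_pow]
      simp
    rw [hexp, map_sum, Finset.sum_range_succ, htop, Finset.sum_congr rfl fun j hj =>
      hlow (r + 1) j (by have := Finset.mem_range.1 hj; omega), Finset.sum_ite_eq',
      if_pos (Finset.mem_range.2 (Nat.succ_pos r)), sub_eq_add_neg]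

end Groth.L12.KBun
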