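import Groth.Agent.L12.KBun.Atlas
import Groth.Agent.L16.Existence.AmpleVanish
import Groth.Agent.L16.ProjSpace.Ample
import Groth.Agent.L16.HomSh.QAffineCompletion
import Groth.Agent.L22.Reg.Seq

/-!
# Regular modules on a projective bundle
-/

set_option autoImplicit false
set_option linter.style.haveILetI false
set_option linter.unusedSectionVars false
set_option backward.isDefEq.respectTransparency false
set_option backward.isDefEq.respectTransparency.types false

universe u

open CategoryTheory CategoryTheory.Limits AlgebraicGeometry TopologicalSpace Opposite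

attribute [local instance] HasDerivedCategory.standard

noncomputable section

namespace Groth.L12.KBun

open Groth.L22.Reg (VPush tw' Regular O')
open Groth.L00.Tensor (tensorIso tensorRightF tensorUnitRight)

variable {S P : Scheme.{u}} {π : P ⟶ S} {O1 : P.Modules} {r : ℕ} (A : Atlas π O1 r)

/-- The restriction of a module to a chart. -/
abbrev Atlas.res (y : S) (M : P.Modules) : (CohB1.ProjSpace r Γ(S, A.V y)).Modules :=
  (Scheme.Modules.pullback (A.h y)).obj M

/-- Vanishing of `H^q(M(d))` in all charts. -/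
def CV (q : ℕ) (d : ℤ) (M : P.Modules) : Prop :=
  ∀ y, Subsingleton (Coh.HH (CohB1.ProjSpace r Γ(S, A.V y)) (tw' (A.res y M) d) q)

/-- Regular: `0`-regular in all charts. -/
def Reg (M : P.Modules) : Prop := ∀ y, Regular (A.res y M) 0

theorem nonempty_res_tensorPow (y : S) (M : P.Modules) (k : ℕ) :
    Nonempty (A.res y (CohB1.tensorMod M (CohB1.tensorPow O1 k)) ≅ tw' (A.res y M) (k : ℤ)) := by
  obtain ⟨e⟩ := Groth.L16.ProjSpace.nonempty_pullback_tensorPow_iso (A.h y) (A.iso y) k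
  rw [mul_one] at e
  exact ⟨(Groth.L29.DC.PullTensor.pullTensor (A.h y) M _).symm ≪≫ tensorIso (Iso.refl _) e⟩

theorem cv_tensorPow {q : ℕ} {d c : ℤ} {k : ℕ} (h : (k : ℤ) + d = c) {M : P.Modules} :
    CV A q d (CohB1.tensorMod M (CohB1.tensorPow O1 k)) ↔ CV A q c M :=
  forall_congr' fun y => by
    obtain ⟨e⟩ := nonempty_res_tensorPow A y M k
    obtain ⟨e'⟩ := Groth.L22.Reg.nonempty_tw_tw (A.res y M) h
    exact Groth.L22.Reg.subsingleton_congr_iso ((tensorRightF (O' r Γ(S, A.V y) d)).mapIso e ≪≫ e') q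

theorem nonempty_res_O1 (y : S) (M : P.Modules) :
    Nonempty (A.res y (CohB1.tensorMod M O1) ≅ tw' (A.res y M) 1) :=
  ⟨(Groth.L29.DC.PullTensor.pullTensor (A.h y) M _).symm ≪≫ tensorIso (Iso.refl _) (A.iso y)⟩

theorem cv_O1 {q : ℕ} {d c : ℤ} (h : 1 + d = c) {M : P.Modules} :
    CV A q d (CohB1.tensorMod M O1) ↔ CV A q c M :=
  forall_congr' fun y => by
    obtain ⟨e⟩ := nonempty_res_O1 A y M
    obtain ⟨e'⟩ := Groth.L22.Reg.nonempty_tw_tw (A.res y M) h
    exact Groth.L22.Reg.subsingleton_congr_iso ((tensorRightF (O' r Γ(S, A.V y) d)).mapIso e ≪≫ e') q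

theorem nonempty_res_inv {L : P.Modules} (hL : ClSub.IsInverseOf L O1) (y : S) (M : P.Modules) :
    Nonempty (A.res y (CohB1.tensorMod M L) ≅ tw' (A.res y M) (-1)) := by
  obtain ⟨e⟩ := Groth.L16.ProjSpace.nonempty_pullback_inverse_iso (A.h y) (A.iso y) hL
  exact ⟨(Groth.L29.DC.PullTensor.pullTensor (A.h y) M _).symm ≪≫ tensorIso (Iso.refl _) e⟩

theorem cv_inv {L : P.Modules} (hL : ClSub.IsInverseOf L O1) {q : ℕ} {d c : ℤ} (h : -1 + d = c) {M : P.Modules} :
    CV A q d (CohB1.tensorMod M L) ↔ CV A q c M :=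
  forall_congr' fun y => by
    obtain ⟨e⟩ := nonempty_res_inv A hL y M
    obtain ⟨e'⟩ := Groth.L22.Reg.nonempty_tw_tw (A.res y M) h
    exact Groth.L22.Reg.subsingleton_congr_iso ((tensorRightF (O' r Γ(S, A.V y) d)).mapIso e ≪≫ e') q

theorem cv_of_reg {M : P.Modules} (hM : Reg A M) {q : ℕ} (hq : 1 ≤ q) {d : ℤ} (hd : -(q : ℤ) ≤ d) : CV A q d M :=
  fun y => (hM y).subsingleton hq (by omega)

/-- Vanishing in charts and of the higher direct image. -/
theorem cv_zero_iff {M : P.Modules} [Coh.IsQCoh M] (q : ℕ) : VPush π q M ↔ CV A q 0 M := by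
  haveI := A.isProper
  refine ⟨fun h y => ?_, fun h => ?_⟩
  · obtain ⟨e⟩ := A.nonempty_HU M y q
    obtain ⟨z⟩ := Groth.L22.Reg.nonempty_tw_zero (A.res y M)
    haveI := Groth.L12.KRes.subsingleton_HU_of_Rpush π (A.affine y) M q h
    exact (Groth.L22.Reg.subsingleton_congr_iso z q).2 e.toEquiv.symm.subsingleton
  · refine isZero_Rpush_of_cover A.V A.affine (fun y => ⟨y, A.mem y⟩) fun y => ?_
    obtain ⟨e⟩ := A.nonempty_HU M y q
    obtain ⟨z⟩ := Groth.L22.Reg.nonempty_tw_zero (A.res y M)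
    haveI := (Groth.L22.Reg.subsingleton_congr_iso z q).1 (h y)
    exact e.toEquiv.subsingleton

theorem vpush_of_reg {M : P.Modules} [Coh.IsQCoh M] (hM : Reg A M) {q : ℕ} (hq : 1 ≤ q) : VPush π q M :=
  (cv_zero_iff A q).2 (cv_of_reg A hM hq (by omega))

variable [IsNoetherian S]

include A in
theorem isCoh_res {M : P.Modules} (hM : Coh.IsCoh M) (y : S) : Coh.IsCoh (A.res y M) := by
  haveI : IsNoetherianRing Γ(S, A.V y) := IsLocallyNoetherian.component_noetherian ⟨A.V y, A.affine y⟩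
  haveI := A.isProper
  haveI : IsLocallyNoetherian P := LocallyOfFiniteType.isLocallyNoetherian π
  exact Groth.L16.AffineBC.isCoh_pullback (A.h y) hM

theorem exists_eventual_chart {M : P.Modules} (hM : Coh.IsCoh M) (y : S) :
    ∃ d₀ : ℕ, ∀ d : ℕ, d₀ ≤ d → ∀ q : ℕ, 1 ≤ q →
      Subsingleton (Coh.HH (CohB1.ProjSpace r Γ(S, A.V y)) (tw' (A.res y M) (d : ℤ)) q) := by
  haveI : IsNoetherianRing Γ(S, A.V y) := IsLocallyNoetherian.component_noetherian ⟨A.V y, A.affine y⟩
  let R := Γ(S, A.V y)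
  letI : (CohB1.ProjSpace r R).Over (Spec (CommRingCat.of R)) := ⟨CohB1.ProjSpace.toSpec r R⟩
  haveI : IsProper (CohB1.ProjSpace r R ↘ Spec (CommRingCat.of R)) :=
    inferInstanceAs (IsProper (CohB1.ProjSpace.toSpec r R))
  have hamp : CohB1.IsAmple (Twist.twistProjSpace r R 1) := by
    refine Groth.L16.ProjTwist.isAmple_twist (𝒜 := CohB1.polyGrading r R) (d := 1) one_pos
      (fun i : Fin (r + 1) => ⟨MvPolynomial.X i, Groth.L16.ProjSpace.X_mem r R i⟩) ?_
    exact top_le_iff.1 fun x _ => Opens.mem_iSup.2 (Groth.L16.ProjSpace.exists_mem_basicOpen_X r R x)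
  obtain ⟨d₀, h⟩ := Groth.L16.Existence.exists_vanishing_of_isAmple (A := R) hamp (isCoh_res A hM y)
  refine ⟨d₀, fun d hd q hq => ?_⟩
  obtain ⟨e⟩ := Groth.L16.ProjTwist.nonempty_twist_iso_tensorPow (CohB1.polyGrading r R)
    (Groth.L22.Reg.hcov r R) d
  exact (Groth.L22.Reg.subsingleton_congr_iso
    (tensorIso (Iso.refl (A.res y M)) e ≪≫ Groth.L00.Tensor.tensorComm _ _) q).2 (h d hd q hq)

/-- Higher direct images of large twists vanish. -/
theorem exists_eventual {M : P.Modules} (hM : Coh.IsCoh M) (hinv : PicF.IsInvertible O1) :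
    ∃ D : ℕ, ∀ d : ℕ, D ≤ d → ∀ q : ℕ, 1 ≤ q → CV A q (d : ℤ) M := by
  haveI := A.isProper
  haveI : Coh.IsQCoh M := hM.1
  choose d₀ h using fun y => exists_eventual_chart A hM y
  obtain ⟨t, ht⟩ := isCompact_univ.elim_finite_subcover (fun y : S => (A.V y : Set S)) (fun y => (A.V y).2)
    (fun y _ => Set.mem_iUnion.2 ⟨y, A.mem y⟩)
  refine ⟨t.sup d₀, fun d hd q hq => (cv_tensorPow A (k := d) (add_zero _)).1 ?_⟩
  haveI : Coh.IsQCoh (CohB1.tensorPow O1 d) := Groth.L21.Extend.isQCoh_of_isInvertible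
    (Groth.L18.Ample.isInvertible_tensorPow hinv d)
  haveI := Groth.L00.Tensor.isQCoh_tensorMod M (CohB1.tensorPow O1 d)
  refine (cv_zero_iff A q).1 (isZero_Rpush_of_cover (fun y : t => A.V y.1) (fun y => A.affine _) (fun z => ?_) fun y => ?_)
  · obtain ⟨y, hy, hz⟩ := Set.mem_iUnion₂.1 (ht (Set.mem_univ z))
    exact ⟨⟨y, hy⟩, hz⟩
  · obtain ⟨e⟩ := A.nonempty_HU (CohB1.tensorMod M (CohB1.tensorPow O1 d)) y.1 q
    obtain ⟨i⟩ := nonempty_res_tensorPow A y.1 M d
    haveI := (Groth.L22.Reg.subsingleton_congr_iso i q).2 (h y.1 d ((Finset.le_sup y.2).trans hd) q hq)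
    exact e.toEquiv.subsingleton

/-- Large twists are regular. -/
theorem exists_reg {M : P.Modules} (hM : Coh.IsCoh M) (hinv : PicF.IsInvertible O1) :
    ∃ m : ℕ, Reg A (CohB1.tensorMod M (CohB1.tensorPow O1 m)) := by
  obtain ⟨D, hD⟩ := exists_eventual A hM hinv
  refine ⟨D + r, fun y => ?_⟩
  obtain ⟨e⟩ := nonempty_res_tensorPow A y M (D + r)
  refine Groth.L22.Reg.regular_iso e.symm ?_
  haveI := (isCoh_res A hM y).1
  haveI := Groth.L22.Reg.isQCoh_tw (A.res y M) ((D + r : ℕ) : ℤ)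
  refine Groth.L22.Reg.regular_of_le_n fun q hq hqr => ?_
  obtain ⟨e'⟩ := Groth.L22.Reg.nonempty_tw_tw (A.res y M)
    (show ((D + r : ℕ) : ℤ) + (0 - (q : ℤ)) = ((D + r - q : ℕ) : ℤ) by omega)
  exact (Groth.L22.Reg.subsingleton_congr_iso e' q).2 (hD (D + r - q) (by omega) q hq y)

include A in
theorem isFinLocFree_push_of_vpush {M : P.Modules} (hM : FlatMod.IsFinLocFree M)
    (h : ∀ q, 1 ≤ q → VPush π q M) : FlatMod.IsFinLocFree ((Scheme.Modules.pushforward π).obj M) := by
  haveI := A.isProper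
  haveI := A.flat
  exact Groth.L12.PushFree.isFinLocFree_push π hM fun i hi => h i hi

/-- The counit at a regular module is an epimorphism. -/
theorem epi_counit {M : P.Modules} (hM : Coh.IsCoh M) (hreg : Reg A M) :
    Epi ((Scheme.Modules.pullbackPushforwardAdjunction π).counit.app M) := by
  refine Preadditive.epi_of_cancel_zero _ fun {G} g hg => ?_
  have h1 : (Scheme.Modules.pushforward π).map g = 0 := by
    let adj := Scheme.Modules.pullbackPushforwardAdjunction π
    have h2 : adj.homEquiv _ _ (adj.counit.app M ≫ g) = (Scheme.Modules.pushforward π).map g := by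
      rw [Adjunction.homEquiv_unit, Functor.map_comp, ← Category.assoc]
      erw [adj.right_triangle_components]
      exact Category.id_comp _
    rw [← h2, hg, Adjunction.homEquiv_unit, Functor.map_zero, comp_zero]
  refine Groth.L21.Mod.hom_ext_of_restrict (fun y => A.h y) (fun x => ?_) fun y => ?_
  · obtain ⟨w, hw⟩ : x ∈ (A.h (π x)).opensRange := (A.range (π x)).ge (A.mem (π x))
    exact ⟨π x, w, hw⟩
  · haveI : IsNoetherianRing Γ(S, A.V y) := IsLocallyNoetherian.component_noetherian ⟨A.V y, A.affine y⟩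
    obtain ⟨z⟩ := Groth.L22.Reg.nonempty_tw_zero (A.res y M)
    obtain ⟨ι, p, hp⟩ := (hreg y).isGloballyGenerated (isCoh_res A hM y) le_rfl
    let p' := p ≫ z.hom ≫ ((Scheme.Modules.restrictFunctorIsoPullback (A.h y)).app M).inv
    haveI : Epi p' := by
      haveI := hp
      infer_instance
    let gr := (Scheme.Modules.restrictFunctor (A.h y)).map g
    have hz : ∀ s, gr.app ⊤ s = 0 := fun s => by
      have e : (A.h y) ''ᵁ ⊤ = π ⁻¹ᵁ A.V y := (Scheme.Hom.image_top_eq_opensRange _).trans (A.range y)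
      have hv : ∀ {W : P.Opens}, W = π ⁻¹ᵁ A.V y → ∀ t : Γ(M, W), g.app W t = 0 := by
        rintro W rfl t
        exact congr($(congrArg (fun k => Scheme.Modules.Hom.app k (A.V y)) h1) t)
      exact hv e s
    have h0 : p' ≫ gr = 0 := Sigma.hom_ext _ _ fun k => by
      refine Groth.L16.HomSh.secOf_injective ?_
      rw [← Category.assoc, Groth.L16.HomSh.secOf_comp, comp_zero]
      exact (hz _).trans rfl
    rw [Functor.map_zero]
    exact (cancel_epi p').1 (h0.trans comp_zero.symm)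

end Groth.L12.KBun
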