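import Groth.Agent.L12.KRR.Pull

/-!
# The relation of the tautological class of a projective bundle
-/

set_option autoImplicit false
set_option linter.style.haveILetI false
set_option linter.unusedSectionVars false
set_option backward.isDefEq.respectTransparency false
set_option backward.isDefEq.respectTransparency.types false

universe v u

open CategoryTheory CategoryTheory.Limits AlgebraicGeometry LambdaRing

attribute [local instance] HasDerivedCategory.standard

noncomputable section

namespace Groth.L12.KBun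

section Algebra

variable {K : Type v} [CommRing K] [LambdaOps K] {PK : PosStructure K}

/-- `λ^{i+1}(w + u) = λ^{i+1} w + u λ^i w` for a line element `u`. -/
theorem lam_add_line {u : K} (hu : PK.IsLine u) (w : K) (i : ℕ) :
    LambdaOps.lam (i + 1) (w + u) = LambdaOps.lam (i + 1) w + u * LambdaOps.lam i w := by
  rw [LambdaOps.lam_add, Finset.sum_range_succ, Finset.sum_range_succ, Nat.sub_self, Nat.add_sub_cancel_left,
    LambdaOps.lam_zero, LambdaOps.lam_one, Finset.sum_eq_zero fun j hj => ?_]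
  · ring
  · have := Finset.mem_range.1 hj
    rw [Groth.L22.Lambda.lam_eq_zero_of_isLine PK hu (i := i + 1 - j) (by omega), mul_zero]

theorem sum_alt_line {u : K} (hu : PK.IsLine u) (w : K) : ∀ k : ℕ,
    ∑ i ∈ Finset.range (k + 1), (-1 : K) ^ i * LambdaOps.lam i (w + u) * u ^ (k - i) = (-1) ^ k * LambdaOps.lam k w
  | 0 => by simp [LambdaOps.lam_zero]
  | k + 1 => by
    rw [Finset.sum_range_succ, Nat.sub_self, pow_zero, mul_one, lam_add_line hu,
      Finset.sum_congr rfl fun i (hi : i ∈ Finset.range (k + 1)) => show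
        (-1 : K) ^ i * LambdaOps.lam i (w + u) * u ^ (k + 1 - i) =
          u * ((-1 : K) ^ i * LambdaOps.lam i (w + u) * u ^ (k - i)) by
        have := Finset.mem_range.1 hi
        rw [show k + 1 - i = (k - i) + 1 by omega, pow_succ]
        ring,
      ← Finset.mul_sum, sum_alt_line hu w k, pow_succ]
    ring

end Algebra

variable {X P : Scheme.{u}} {π : P ⟶ X} {E : X.Modules} {O1 : P.Modules}
  {q : (Scheme.Modules.pullback π).obj E ⟶ O1} (hPB : _root_.KRR.IsProjBundle π E O1 q)
  {r : ℕ} (hE : FlatMod.IsFinLocFreeOfRank (r + 1) E)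
  {KX : Type v} [CommRing KX] [LambdaOps KX] {PX : PosStructure KX} {φX : SGA6.Kvb X →+ KX}
  (hKX : _root_.KRR.IsModel X KX PX φX)
  {KP : Type v} [CommRing KP] [LambdaOps KP] {PP : PosStructure KP} {φP : SGA6.Kvb P →+ KP}
  (hKP : _root_.KRR.IsModel P KP PP φP) {g : KX →+ KP} (hg : _root_.KRR.IsPull π φX φP g)

/-- The tautological sequence. -/
def tautSC (q : (Scheme.Modules.pullback π).obj E ⟶ O1) : ShortComplex P.Modules :=
  ShortComplex.mk (kernel.ι q) q (kernel.condition _)

include hPB in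
theorem shortExact_tautSC : (tautSC q).ShortExact :=
  { exact := ShortComplex.exact_kernel _, mono_f := inferInstanceAs (Mono (kernel.ι _)), epi_g := hPB.epi }

include hPB hE in
theorem isFinLocFree_taut : FlatMod.IsFinLocFree (tautSC q).X₁ := by
  haveI := hPB.epi
  exact Groth.L29.DC.isFinLocFree_kernel_of_epi q
    (Groth.L18.KRRAmple.isFinLocFree_of_rank (Groth.L18.MapEpi.isFinLocFreeOfRank_pullback π hE))
    (Groth.L18.KRRAmple.isFinLocFree_of_rank hPB.invertible)

include hPB hKP in
theorem isLine_O1 : PP.IsLine (φP (_root_.KRR.cl P O1)) :=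
  ⟨(hKP.mem_pos_iff _).2 ⟨1, _, le_rfl, hPB.invertible, rfl⟩, by exact_mod_cast hKP.aug_cl 1 _ hPB.invertible⟩

include hPB hE in
theorem cl_pull_eq (h : FlatMod.IsFinLocFree ((Scheme.Modules.pullback π).obj E)) :
    φP (_root_.KRR.cl P ((Scheme.Modules.pullback π).obj E)) =
      φP (_root_.KRR.cl P (tautSC q).X₁) + φP (_root_.KRR.cl P O1) := by
  rw [← map_add]
  exact congrArg φP (Groth.L29.KSub.clSub_shortExact (_root_.KRR.vbP P) (shortExact_tautSC hPB)
    (isFinLocFree_taut hPB hE) h (Groth.L18.KRRAmple.isFinLocFree_of_rank hPB.invertible))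

include hPB hE in
theorem rank_taut [ConnectedSpace P] : FlatMod.IsFinLocFreeOfRank r (tautSC q).X₁ := by
  have hW := isFinLocFree_taut hPB hE
  obtain ⟨k, hk⟩ := Groth.L18.KRRAmple.exists_rank hW
  have hp := Groth.L18.MapEpi.isFinLocFreeOfRank_pullback π hE
  have h := Groth.L12.Kvb.rk_shortExact _ (shortExact_tautSC hPB) hW
    (Groth.L18.KRRAmple.isFinLocFree_of_rank hp) (Groth.L18.KRRAmple.isFinLocFree_of_rank hPB.invertible)
  rw [Groth.L12.Kvb.rk_eq hk, show (tautSC q).X₂ = (Scheme.Modules.pullback π).obj E from rfl,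
    Groth.L12.Kvb.rk_eq hp, show (tautSC q).X₃ = O1 from rfl, Groth.L12.Kvb.rk_eq hPB.invertible] at h
  obtain rfl : k = r := by omega
  exact hk

include hPB hE hKP in
theorem lam_taut_eq_zero [ConnectedSpace P] : LambdaOps.lam (r + 1) (φP (_root_.KRR.cl P (tautSC q).X₁)) = 0 := by
  have hr := rank_taut hPB hE
  rcases Nat.eq_zero_or_pos r with rfl | hpos
  · rw [show _root_.KRR.cl P (tautSC q).X₁ = 0 from Groth.L29.KSub.clSub_zero (_root_.KRR.vbP P)
      (Groth.L12.Kvb.isZero_of_rank_zero hr) (isFinLocFree_taut hPB hE), map_zero]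
    exact Groth.L22.Lambda.lam_succ_zero 0
  · exact PP.lam_eq_zero _ ((hKP.mem_pos_iff _).2 ⟨r, _, hpos, hr, rfl⟩) _
      (by rw [hKP.aug_cl r _ hr]; push_cast; omega)

include hPB hE hKX hKP hg in
/-- `Σ (-1)^i π^*(λ^i e) ℓ^{r+1-i} = 0`. -/
theorem taut_relation [ConnectedSpace P] :
    ∑ i ∈ Finset.range (r + 2), (-1 : KP) ^ i * g (LambdaOps.lam i (φX (_root_.KRR.cl X E))) *
      φP (_root_.KRR.cl P O1) ^ (r + 1 - i) = 0 := by
  have hEf := Groth.L18.KRRAmple.isFinLocFree_of_rank hE
  rw [Finset.sum_congr rfl fun i _ => by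
    rw [Groth.L12.KRR.pull_lam hKP hKX hg, hg E hEf, cl_pull_eq hPB hE (Groth.L29.LocFree.pullback π hEf)],
    sum_alt_line (isLine_O1 hPB hKP), lam_taut_eq_zero hPB hE hKP, mul_zero]

end Groth.L12.KBun
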