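import Groth.Agent.L12.KBun.Gen
import Groth.Agent.L12.KBun.Relation
import Groth.Agent.L12.ExtSh.Filtration
import Groth.Agent.L12.Kvb.Lambda

/-!
# Exterior powers of an extension by a line bundle, and the twists on a projective bundle
-/

set_option autoImplicit false
set_option linter.style.haveILetI false
set_option linter.unusedSectionVars false
set_option backward.isDefEq.respectTransparency false
set_option backward.isDefEq.respectTransparency.types false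

universe v u

open CategoryTheory CategoryTheory.Limits AlgebraicGeometry TopologicalSpace Opposite

attribute [local instance] HasDerivedCategory.standard

noncomputable section

namespace Groth.L12.KBun

open Groth.L12.ExtSh (filMod wedgeMod)
open Groth.L00.Tensor (tensorIso tensorRightF tensorUnitRight tensorUnitLeft tensorAssoc tensorComm)

section Filtr

variable {X : Scheme.{u}} {S : ShortComplex X.Modules}

theorem isZero_tensor_left {M : X.Modules} (h : IsZero M) (N : X.Modules) : IsZero (CohB1.tensorMod M N) :=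
  (tensorRightF N).map_isZero h

theorem isZero_tensor_right {N : X.Modules} (h : IsZero N) (M : X.Modules) : IsZero (CohB1.tensorMod M N) :=
  (isZero_tensor_left h M).of_iso (tensorComm M N)

theorem exists_piece [Coh.IsQCoh S.X₁] [Coh.IsQCoh S.X₂] (hS : S.ShortExact) (h₁ : FlatMod.IsFinLocFree S.X₁)
    (h₃ : FlatMod.IsFinLocFree S.X₃) {i j n : ℕ} {L' L'' : X.Modules} (hL' : ExtPow.IsExtPow i S.X₁ L')
    (hL'' : ExtPow.IsExtPow j S.X₃ L'') (h : i + j = n) :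
    ∃ (a : filMod S n (i + 1) ⟶ filMod S n i) (b : filMod S n i ⟶ CohB1.tensorMod L' L'') (w : a ≫ b = 0),
      (ShortComplex.mk a b w).ShortExact := by
  obtain ⟨φ', hφ'⟩ := hL'
  obtain ⟨φ'', hφ''⟩ := hL''
  exact Groth.L12.ExtSh.exists_shortExact S φ' φ'' hφ' hφ'' hS h h₁ h₃

/-- `0 → Λ^{i+1} S₁ → Λ^{i+1} S₂ → Λ^i S₁ ⊗ S₃ → 0` when `Λ^m S₃ = 0` for `m ≥ 2`. -/
theorem exists_wedge_shortExact [Coh.IsQCoh S.X₁] [Coh.IsQCoh S.X₂] [Coh.IsQCoh S.X₃] (hS : S.ShortExact)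
    (h₁ : FlatMod.IsFinLocFree S.X₁) (h₃ : FlatMod.IsFinLocFree S.X₃)
    (hz : ∀ m, 2 ≤ m → IsZero (wedgeMod S.X₃ m)) (i : ℕ) :
    ∃ T : ShortComplex X.Modules, T.ShortExact ∧ Nonempty (T.X₁ ≅ wedgeMod S.X₁ (i + 1)) ∧
      Nonempty (T.X₂ ≅ wedgeMod S.X₂ (i + 1)) ∧
      Nonempty (T.X₃ ≅ CohB1.tensorMod (wedgeMod S.X₁ i) S.X₃) := by
  obtain ⟨a, b, w, hT⟩ := exists_piece hS h₁ h₃ (Groth.L12.ExtSh.isExtPow_wedgeMod S.X₁ i)
    (Groth.L12.Kvb.isExtPow_one S.X₃) (rfl : i + 1 = i + 1)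
  refine ⟨_, hT, ?_, ?_, ⟨Iso.refl _⟩⟩
  · obtain ⟨a', b', w', hT'⟩ := exists_piece hS h₁ h₃ (Groth.L12.ExtSh.isExtPow_wedgeMod S.X₁ (i + 1))
      (Groth.L12.Kvb.isExtPow_zero S.X₃) (add_zero (i + 1))
    haveI : IsIso b' := hT'.isIso_g_iff.2 (Groth.L12.ExtSh.isZero_filMod S (Nat.lt_succ_self _))
    exact ⟨asIso b' ≪≫ tensorUnitRight _⟩
  · have key : ∀ j, j ≤ i → Nonempty (filMod S (i + 1) j ≅ filMod S (i + 1) 0) := fun j hj => by
      induction j with
      | zero => exact ⟨Iso.refl _⟩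
      | succ j ih =>
        obtain ⟨e⟩ := ih (by omega)
        obtain ⟨a', b', w', hT'⟩ := exists_piece hS h₁ h₃ (Groth.L12.ExtSh.isExtPow_wedgeMod S.X₁ j)
          (Groth.L12.ExtSh.isExtPow_wedgeMod S.X₃ (i + 1 - j)) (show j + (i + 1 - j) = i + 1 by omega)
        haveI : IsIso a' := hT'.isIso_f_iff.2 (isZero_tensor_right (hz _ (by omega)) _)
        exact ⟨asIso a' ≪≫ e⟩
    obtain ⟨e⟩ := key i le_rfl
    obtain ⟨e'⟩ := Groth.L12.ExtSh.nonempty_filMod_zero_iso S (Groth.L12.ExtSh.isExtPow_wedgeMod S.X₂ (i + 1))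
    exact ⟨e ≪≫ e'⟩

theorem isZero_of_cl_eq_zero [ConnectedSpace X] {K : Type v} [CommRing K] [LambdaRing.LambdaOps K]
    {PK : LambdaRing.PosStructure K} {φ : SGA6.Kvb X →+ K} (hK : _root_.KRR.IsModel X K PK φ)
    {M : X.Modules} (hM : FlatMod.IsFinLocFree M) (h : φ (_root_.KRR.cl X M) = 0) : IsZero M := by
  obtain ⟨k, hk⟩ := Groth.L18.KRRAmple.exists_rank hM
  have e := hK.aug_cl k M hk
  rw [h, map_zero] at e
  obtain rfl : k = 0 := by exact_mod_cast e.symm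
  exact Groth.L12.Kvb.isZero_of_rank_zero hk

theorem lam_cl_eq {K : Type v} [CommRing K] [LambdaRing.LambdaOps K]
    {PK : LambdaRing.PosStructure K} {φ : SGA6.Kvb X →+ K} (hK : _root_.KRR.IsModel X K PK φ)
    {M : X.Modules} [Coh.IsQCoh M] (hM : FlatMod.IsFinLocFree M) (i : ℕ) :
    LambdaRing.LambdaOps.lam i (φ (_root_.KRR.cl X M)) = φ (_root_.KRR.cl X (wedgeMod M i)) :=
  hK.map_lam i M _ hM (Groth.L12.ExtSh.isFinLocFree_wedgeMod hM i) (Groth.L12.ExtSh.isExtPow_wedgeMod M i)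

end Filtr

section Twists

variable {S P : Scheme.{u}} {π : P ⟶ S} {O1 L : P.Modules} {r : ℕ}

/-- The twists `O(d)`, with `L` an inverse of `O(1)`. -/
def tw (O1 L : P.Modules) : ℤ → P.Modules
  | Int.ofNat k => CohB1.tensorPow O1 k
  | Int.negSucc k => CohB1.tensorPow L (k + 1)

theorem tw_natCast (k : ℕ) : tw O1 L (k : ℤ) = CohB1.tensorPow O1 k := rfl

theorem tw_negSucc (k : ℕ) : tw O1 L (Int.negSucc k) = CohB1.tensorPow L (k + 1) := rfl

theorem isInvertible_tw (hO : PicF.IsInvertible O1) (hL : PicF.IsInvertible L) (d : ℤ) :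
    PicF.IsInvertible (tw O1 L d) := by
  cases d
  · exact Groth.L18.Ample.isInvertible_tensorPow hO _
  · exact Groth.L18.Ample.isInvertible_tensorPow hL _

theorem nonempty_O1_tensor_tw (hLO : ClSub.IsInverseOf L O1) (d : ℤ) :
    Nonempty (CohB1.tensorMod O1 (tw O1 L d) ≅ tw O1 L (d + 1)) := by
  match d with
  | Int.ofNat k => exact ⟨tensorComm _ _⟩
  | Int.negSucc 0 =>
    obtain ⟨u⟩ := hLO
    exact ⟨tensorIso (Iso.refl O1) (Groth.L00.Tensor.tensorPowOne L) ≪≫ tensorComm _ _ ≪≫ u⟩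
  | Int.negSucc (k + 1) =>
    obtain ⟨u⟩ := hLO
    rw [show Int.negSucc (k + 1) + 1 = Int.negSucc k by omega]
    exact ⟨tensorComm _ _ ≪≫ tensorAssoc (CohB1.tensorPow L (k + 1)) L O1 ≪≫ tensorIso (Iso.refl _) u ≪≫
      tensorUnitRight _⟩

variable (A : Atlas π O1 r)

theorem nonempty_res_tw (hLO : ClSub.IsInverseOf L O1) (y : S) (d : ℤ) :
    Nonempty (A.res y (tw O1 L d) ≅ Groth.L22.Reg.O' r Γ(S, A.V y) d) := by
  match d with
  | Int.ofNat k =>
    obtain ⟨e⟩ := Groth.L16.ProjSpace.nonempty_pullback_tensorPow_iso (A.h y) (A.iso y) k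
    rw [mul_one] at e
    exact ⟨e⟩
  | Int.negSucc k =>
    obtain ⟨e'⟩ := Groth.L16.ProjSpace.nonempty_pullback_inverse_iso (A.h y) (A.iso y) hLO
    obtain ⟨e⟩ := Groth.L16.ProjSpace.nonempty_pullback_tensorPow_iso (A.h y) e' (k + 1)
    rw [show ((k + 1 : ℕ) : ℤ) * -1 = Int.negSucc k by omega] at e
    exact ⟨e⟩

theorem cv_congr {M N : P.Modules} (e : M ≅ N) (q : ℕ) (d : ℤ) : CV A q d M ↔ CV A q d N :=
  forall_congr' fun y => Groth.L22.Reg.subsingleton_congr_iso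
    ((tensorRightF (Groth.L22.Reg.O' r Γ(S, A.V y) d)).mapIso ((Scheme.Modules.pullback (A.h y)).mapIso e)) q

theorem cv_tw (hLO : ClSub.IsInverseOf L O1) {q : ℕ} {d c a : ℤ} (h : a + d = c) {M : P.Modules} :
    CV A q d (CohB1.tensorMod M (tw O1 L a)) ↔ CV A q c M :=
  forall_congr' fun y => by
    obtain ⟨e⟩ := nonempty_res_tw A hLO y a
    obtain ⟨e'⟩ := Groth.L22.Reg.nonempty_tw_tw (A.res y M) h
    exact Groth.L22.Reg.subsingleton_congr_iso ((tensorRightF (Groth.L22.Reg.O' r Γ(S, A.V y) d)).mapIso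
      ((Groth.L29.DC.PullTensor.pullTensor (A.h y) M _).symm ≪≫ tensorIso (Iso.refl _) e) ≪≫ e') q

theorem cv_O_neg {d : ℤ} (h₀ : d < 0) (hd : -(r : ℤ) ≤ d) :
    CV A 0 d (Coh.structureModule P) := fun y =>
  (Groth.L22.Reg.subsingleton_congr_iso
    (tensorIso (Groth.L29.LocFree.pullbackUnitIso (A.h y)) (Iso.refl _) ≪≫ tensorUnitLeft _) 0).2
    (Groth.L16.ProjSpace.subsingleton_HH_twist r Γ(S, A.V y) d 0 (fun h => absurd h.2 (by omega))
      fun h => absurd h.2 (by omega))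

theorem cv_O_pos {q : ℕ} (hq : 1 ≤ q) {d : ℤ} (hd : -(r : ℤ) ≤ d) : CV A q d (Coh.structureModule P) := fun y =>
  (Groth.L22.Reg.subsingleton_congr_iso
    (tensorIso (Groth.L29.LocFree.pullbackUnitIso (A.h y)) (Iso.refl _) ≪≫ tensorUnitLeft _) q).2
    (Groth.L16.ProjSpace.subsingleton_HH_twist r Γ(S, A.V y) d q (fun h => by omega)
      fun h => absurd h.2 (by omega))

end Twists

end Groth.L12.KBun
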